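import Groth.Agent.FunFld.K666.Ext

/-! The conorm as an additive map; transitivity. -/

set_option autoImplicit false

namespace K666.Conorm

open FunFld WithZero K661.Place K666.Ext

section one

variable {k K K' : Type*} [Field k] [Field K] [Field K'] [Algebra k K] [Algebra K K'] [Algebra k K']

open scoped Classical in
variable (K') in
/-- the conorm of a place -/
noncomputable def cP (P : Place k K) : Divisor k K' :=
  if h : {Q : Place k K' | IsOver Q P}.Finite then
    h.toFinset.sum (fun Q => (ramIdx Q P : ℤ) • Finsupp.single Q 1) else 0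

theorem conorm_eq (D : Divisor k K) : conorm K' D = D.sum fun P n => n • cP K' P := rfl

theorem conorm_add (D E : Divisor k K) : conorm K' (D + E) = conorm K' D + conorm K' E := by
  rw [conorm_eq, conorm_eq, conorm_eq]
  exact Finsupp.sum_add_index' (fun _ => zero_smul _ _) (fun _ _ _ => add_smul _ _ _)

variable (k K K') in
/-- the conorm as a homomorphism -/
noncomputable def cHom : Divisor k K →+ Divisor k K' where
  toFun := conorm K'
  map_zero' := by rw [conorm_eq]; exact Finsupp.sum_zero_index
  map_add' := conorm_add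

theorem cHom_apply (D : Divisor k K) : cHom k K K' D = conorm K' D := rfl

theorem conorm_single_one (P : Place k K) : conorm K' (Finsupp.single P 1) = cP K' P := by
  rw [conorm_eq]
  exact (Finsupp.sum_single_index (zero_smul ℤ (cP K' P))).trans (one_smul _ _)

theorem ramIdx_eq_zero {Q : Place k K'} {P : Place k K} (h : ¬ IsOver Q P) : ramIdx Q P = 0 := by
  classical
  rw [ramIdx, dif_neg h]

theorem cP_apply (P : Place k K) (h : {Q : Place k K' | IsOver Q P}.Finite) (Q : Place k K') :
    cP K' P Q = ramIdx Q P := by
  classical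
  rw [cP, dif_pos h, Finsupp.finsetSum_apply]
  simp only [Finsupp.smul_apply, Finsupp.single_apply, smul_eq_mul, mul_ite, mul_one, mul_zero]
  by_cases hQ : IsOver Q P
  · rw [Finset.sum_eq_single Q]
    · simp
    · intro R _ hne; rw [if_neg hne]
    · intro hn; exact absurd (by simpa using hQ) hn
  · rw [ramIdx_eq_zero hQ]
    apply Finset.sum_eq_zero
    intro R hR
    rw [if_neg]
    rintro rfl
    exact hQ (by simpa using hR)

end one

variable {k K K' K'' : Type*} [Field k] [Field K] [Field K'] [Field K'']
    [Algebra k K] [Algebra k K'] [Algebra k K''] [Algebra K K'] [Algebra K' K''] [Algebra K K'']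
    [IsScalarTower k K K'] [IsScalarTower k K' K''] [IsScalarTower k K K''] [IsScalarTower K K' K'']
    [FiniteDimensional K K'] [FiniteDimensional K' K'']

omit [IsScalarTower k K K''] in
theorem conorm_cP (hK : FunFld.IsFunctionField k K) (P : Place k K) :
    conorm K'' (cP K' P) = cP K'' P := by
  classical
  have hfin : FiniteDimensional K K'' := FiniteDimensional.trans K K' K''
  have : IsScalarTower k K K'' := IsScalarTower.of_algebraMap_eq fun x => by
    rw [IsScalarTower.algebraMap_apply k K' K'', IsScalarTower.algebraMap_apply K K' K'',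
      IsScalarTower.algebraMap_apply k K K']
  have h1 : {Q : Place k K' | IsOver Q P}.Finite := finite_over hK P
  have h2 : {Q : Place k K'' | IsOver Q P}.Finite := finite_over hK P
  have h3 : ∀ Q : Place k K', IsOver Q P → {R : Place k K'' | IsOver R Q}.Finite := by
    intro Q hQ
    exact h2.subset (fun R hR => isOver_trans hR hQ)
  have e1 : conorm K'' (cP K' P) =
      ∑ Q ∈ h1.toFinset, (ramIdx Q P : ℤ) • cP K'' Q := by
    conv_lhs => rw [cP]
    rw [dif_pos h1, ← cHom_apply, map_sum]
    apply Finset.sum_congr rfl
    intro Q _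
    rw [map_zsmul, cHom_apply, conorm_single_one]
  rw [e1]
  ext R
  rw [cP_apply P h2, Finsupp.finsetSum_apply]
  simp only [Finsupp.smul_apply, smul_eq_mul]
  have h4 : ∀ Q ∈ h1.toFinset, (ramIdx Q P : ℤ) * (cP K'' Q) R =
      (ramIdx Q P : ℤ) * (ramIdx R Q : ℤ) := by
    intro Q hQ
    rw [cP_apply Q (h3 Q (by simpa using hQ))]
  rw [Finset.sum_congr rfl h4]
  by_cases hR : IsOver R P
  · obtain ⟨Q₀, hQ₀⟩ := exists_below (K := K') R
    have hQP : IsOver Q₀ P := isOver_of_isOver_of_isOver hQ₀ hR
    rw [Finset.sum_eq_single Q₀]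
    · rw [ramIdx_mul hQ₀ hQP]; push_cast; ring
    · intro Q _ hne
      rw [ramIdx_eq_zero (Q := R) (P := Q), Nat.cast_zero, mul_zero]
      intro hRQ
      exact hne (below_unique hRQ hQ₀)
    · intro hn; exact absurd (by simpa using hQP) hn
  · rw [ramIdx_eq_zero hR]
    apply Finset.sum_eq_zero
    intro Q hQ
    rw [ramIdx_eq_zero (Q := R) (P := Q), Nat.cast_zero, mul_zero]
    intro hRQ
    exact hR (isOver_trans hRQ (by simpa using hQ))

omit [IsScalarTower k K K''] in
theorem conorm_conorm (hK : FunFld.IsFunctionField k K) (D : Divisor k K) :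
    conorm K'' (conorm K' D) = conorm K'' D := by
  rw [conorm_eq D, conorm_eq D, ← cHom_apply, map_finsuppSum]
  apply Finsupp.sum_congr
  intro P _
  rw [map_zsmul, cHom_apply, conorm_cP hK]

end K666.Conorm
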