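import Groth.Prelude.Def_W4bk4goldsch23Ext
import Mathlib.RingTheory.AlgebraicIndependent.TranscendenceBasis
import Mathlib.RingTheory.AlgebraicIndependent.Transcendental
import Mathlib.RingTheory.AlgebraicIndependent.AlgebraicClosure
import Mathlib.RingTheory.Valuation.Integral
import Mathlib.FieldTheory.IsAlgClosed.Basic
import Mathlib.FieldTheory.IntermediateField.Adjoin.Basic

/-! Elementary facts on places of function fields of one variable. -/

set_option autoImplicit false

namespace K666.Basic

open FunFld

/-- In a function field of one variable, `K` is algebraic over `k(z)` for each transcendental `z`. -/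
theorem isAlgebraic_adjoin {k K : Type*} [Field k] [Field K] [Algebra k K]
    (hK : FunFld.IsFunctionField k K) (z : K) (hz : Transcendental k z) :
    Algebra.IsAlgebraic (Algebra.adjoin k ({z} : Set K)) K := by
  obtain ⟨⟨x, hx, hfin⟩, -⟩ := hK
  have hxa : AlgebraicIndependent k (fun _ : Unit => x) :=
    (algebraicIndependent_unique_type_iff (ι := Unit) (x := fun _ => x)).mpr hx
  have hza : AlgebraicIndependent k (fun _ : Unit => z) :=
    (algebraicIndependent_unique_type_iff (ι := Unit) (x := fun _ => z)).mpr hz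
  have hr : ∀ w : K, Set.range (fun _ : Unit => w) = {w} := fun w => by
    ext y; simp [eq_comm]
  have halg : Algebra.IsAlgebraic (IntermediateField.adjoin k ({x} : Set K)) K :=
    Algebra.IsAlgebraic.of_finite _ _
  have halg2 : Algebra.IsAlgebraic (Algebra.adjoin k (Set.range (fun _ : Unit => x))) K := by
    rw [hr]
    exact IntermediateField.isAlgebraic_adjoin_iff_top.mp halg
  have hb : IsTranscendenceBasis k (fun _ : Unit => x) :=
    isTranscendenceBasis_iff_algebraicIndependent_isAlgebraic.mpr ⟨hxa, halg2⟩
  have hb2 : IsTranscendenceBasis k (fun _ : Unit => z) :=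
    AlgebraicIndependent.isTranscendenceBasis_of_lift_trdeg_le_of_finite hza
      hb.lift_cardinalMk_eq_trdeg.ge
  have := (isTranscendenceBasis_iff_algebraicIndependent_isAlgebraic.mp hb2).2
  rwa [hr] at this

/-- If a valuation is trivial on a ring over which `y` is algebraic then it is at most `1` at `y`. -/
theorem le_one_of_isAlgebraic {A K Γ₀ : Type*} [CommRing A] [Field K] [Algebra A K]
    [LinearOrderedCommGroupWithZero Γ₀] (v : Valuation K Γ₀)
    (hA : ∀ a : A, a ≠ 0 → v (algebraMap A K a) = 1) (y : K) (hy : IsAlgebraic A y) : v y ≤ 1 := by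
  obtain ⟨p, hp0, hp⟩ := hy
  have hA' : ∀ a : A, v (algebraMap A K a) ≤ 1 := by
    intro a
    by_cases h : a = 0
    · rw [h, map_zero, map_zero]; exact zero_le_one
    · exact (hA a h).le
  by_contra hlt
  push Not at hlt
  rw [Polynomial.aeval_eq_sum_range, Finset.sum_range_succ] at hp
  have hl : p.coeff p.natDegree ≠ 0 := by
    rw [Polynomial.coeff_natDegree, Ne, Polynomial.leadingCoeff_eq_zero]; exact hp0
  have hv : v (p.coeff p.natDegree • y ^ p.natDegree) = v y ^ p.natDegree := by
    rw [Algebra.smul_def, map_mul, hA _ hl, one_mul, map_pow]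
  have h1 : v (∑ i ∈ Finset.range p.natDegree, p.coeff i • y ^ i) < v y ^ p.natDegree := by
    apply v.map_sum_lt
    · exact pow_ne_zero _ (ne_of_gt (zero_lt_one.trans hlt))
    · intro i hi
      rw [Algebra.smul_def, map_mul, map_pow]
      exact mul_lt_of_le_one_of_lt (hA' _) (pow_lt_pow_right₀ hlt (Finset.mem_range.mp hi))
  rw [add_eq_zero_iff_eq_neg] at hp
  rw [hp, Valuation.map_neg, hv] at h1
  exact lt_irrefl _ h1

variable {k K : Type*} [Field k] [Field K] [Algebra k K]

/-- A place is trivial on the constants. -/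
theorem Place_algebraMap (P : Place k K) (c : k) (hc : c ≠ 0) : P.1 (algebraMap k K c) = 1 := by
  apply le_antisymm (P.2.1 c)
  have h := P.2.1 c⁻¹
  rw [map_inv₀, map_inv₀] at h
  have h0 : P.1 (algebraMap k K c) ≠ 0 := by
    rw [Ne, map_eq_zero, FaithfulSMul.algebraMap_eq_zero_iff]; exact hc
  rwa [inv_le_one₀ (zero_lt_iff.mpr h0)] at h

theorem Place_aeval_le (P : Place k K) (z : K) (hz : P.1 z ≤ 1) (p : Polynomial k) :
    P.1 (Polynomial.aeval z p) ≤ 1 := by
  rw [Polynomial.aeval_eq_sum_range]
  apply P.1.map_sum_le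
  intro i _
  rw [Algebra.smul_def, map_mul, map_pow]
  exact mul_le_one' (P.2.1 _) (pow_le_one' hz i)

/-- The residue class at `P` of an element integral at `P` is algebraic over `k`. -/
theorem exists_aeval_lt (hK : FunFld.IsFunctionField k K) (P : Place k K) (z : K)
    (hz : P.1 z ≤ 1) : ∃ p : Polynomial k, p ≠ 0 ∧ P.1 (Polynomial.aeval z p) < 1 := by
  by_contra hcon
  push Not at hcon
  have h1 : ∀ p : Polynomial k, p ≠ 0 → P.1 (Polynomial.aeval z p) = 1 := fun p hp =>
    le_antisymm (Place_aeval_le P z hz p) (hcon p hp)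
  have htr : Transcendental k z := by
    rw [transcendental_iff]
    intro p hp
    by_contra hp0
    have := h1 p hp0
    rw [hp, map_zero] at this
    exact zero_ne_one this
  have halg := isAlgebraic_adjoin hK z htr
  have hA : ∀ a : Algebra.adjoin k ({z} : Set K), a ≠ 0 → P.1 (algebraMap _ K a) = 1 := by
    rintro ⟨a, ha⟩ ha0
    rw [Algebra.adjoin_singleton_eq_range_aeval] at ha
    obtain ⟨p, rfl⟩ := ha
    apply h1
    rintro rfl
    apply ha0
    ext
    simp
  obtain ⟨t, ht⟩ := P.2.2 (WithZero.exp (1 : ℤ))
  have := le_one_of_isAlgebraic P.1 hA t (halg.isAlgebraic t)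
  rw [ht] at this
  rw [← WithZero.exp_zero, WithZero.exp_le_exp] at this
  omega

/-- Over an algebraically closed constant field the residue field is the constant field. -/
theorem exists_const [IsAlgClosed k] (hK : FunFld.IsFunctionField k K) (P : Place k K) (z : K)
    (hz : P.1 z ≤ 1) : ∃ c : k, P.1 (z - algebraMap k K c) < 1 := by
  obtain ⟨p, hp0, hp⟩ := exists_aeval_lt hK P z hz
  have hs : p.Splits := IsAlgClosed.splits p
  by_contra hcon
  push Not at hcon
  have hc : ∀ c : k, P.1 (z - algebraMap k K c) = 1 := by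
    intro c
    apply le_antisymm _ (hcon c)
    exact (P.1.map_sub _ _).trans (max_le hz (P.2.1 c))
  have : P.1 (Polynomial.aeval z p) = 1 := by
    rw [hs.eq_prod_roots]
    rw [map_mul, Polynomial.aeval_C, map_mul, Place_algebraMap P _
      (by rw [Ne, Polynomial.leadingCoeff_eq_zero]; exact hp0), one_mul, map_multiset_prod,
      map_multiset_prod, Multiset.map_map, Multiset.map_map]
    apply Multiset.prod_eq_one
    intro x hx
    obtain ⟨a, _, rfl⟩ := Multiset.mem_map.mp hx
    simp [hc]
  rw [this] at hp
  exact lt_irrefl _ hp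

end K666.Basic
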