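import Groth.Prelude.Def_W4bk4goldsch23Ext
import Groth.Agent.FunFld.K666.Basic
import Mathlib.LinearAlgebra.FiniteDimensional.Basic
import Mathlib.RingTheory.Valuation.Extension

/-! Residue fields of places: lifting, equality of residues, degree one. -/

set_option autoImplicit false

namespace K666.Res

open FunFld K666.Basic

variable {k K : Type*} [Field k] [Field K] [Algebra k K]

theorem mem_O (P : Place k K) (x : K) : x ∈ P.O ↔ P.1 x ≤ 1 := Iff.rfl

theorem residue_eq_zero (P : Place k K) (x : P.O) :
    IsLocalRing.residue P.O x = 0 ↔ P.1 (x : K) < 1 := by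
  rw [IsLocalRing.residue_eq_zero_iff]
  exact Valuation.mem_maximalIdeal_iff (v := P.1)

theorem residue_eq (P : Place k K) (x y : P.O) :
    IsLocalRing.residue P.O x = IsLocalRing.residue P.O y ↔ P.1 ((x : K) - y) < 1 := by
  rw [← sub_eq_zero, ← map_sub, residue_eq_zero]
  rfl

theorem algebraMap_res (P : Place k K) (c : k) :
    algebraMap k (IsLocalRing.ResidueField P.O) c =
      IsLocalRing.residue P.O ⟨algebraMap k K c, P.2.1 c⟩ := rfl

/-- If every element integral at `P` is congruent to a constant, the degree is one. -/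
theorem deg_eq_one (P : Place k K)
    (h : ∀ z : K, P.1 z ≤ 1 → ∃ c : k, P.1 (z - algebraMap k K c) < 1) : P.deg = 1 := by
  have hs : Function.Surjective (algebraMap k (IsLocalRing.ResidueField P.O)) := by
    intro r
    obtain ⟨⟨f, hf⟩, rfl⟩ := IsLocalRing.residue_surjective r
    obtain ⟨c, hc⟩ := h f hf
    refine ⟨c, ?_⟩
    rw [algebraMap_res, eq_comm, residue_eq]
    exact hc
  rw [Place.deg]
  have e : k ≃ₗ[k] IsLocalRing.ResidueField P.O :=
    LinearEquiv.ofBijective (Algebra.linearMap k (IsLocalRing.ResidueField P.O))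
      ⟨(algebraMap k (IsLocalRing.ResidueField P.O)).injective, hs⟩
  rw [← e.finrank_eq, Module.finrank_self]

end K666.Res
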