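import Groth.Agent.FunFld.K661.OverFF
import Groth.Agent.FunFld.K660.Compare
import Groth.Agent.FunFld.K666.Res

/-! Places in a finite extension: consequences of `∑ e f = n`. -/

set_option autoImplicit false

namespace K666.Ext

open FunFld WithZero K661.Place

variable {k K K' : Type*} [Field k] [Field K] [Field K'] [Algebra k K] [Algebra K K'] [Algebra k K']

/-- the fundamental identity -/
theorem fundamental [IsScalarTower k K K'] [FiniteDimensional K K']
    (hK : FunFld.IsFunctionField k K) (P : FunFld.Place k K) :
    {Q : FunFld.Place k K' | FunFld.IsOver Q P}.Finite ∧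
    ∀ (Qs : Finset (FunFld.Place k K')), (∀ Q, Q ∈ Qs ↔ FunFld.IsOver Q P) →
      (∑ Q ∈ Qs, FunFld.ramIdx Q P * Q.deg) = Module.finrank K K' * P.deg :=
  ⟨K661.OverFF.finite_over' hK P, fun Qs h => K661.OverFF.sum_ramIdx_mul_deg' hK P Qs h⟩

/-- the map on residue fields -/
noncomputable def resMap (Q : Place k K') (P : Place k K) (h : IsOver Q P) :
    IsLocalRing.ResidueField P.O →+* IsLocalRing.ResidueField Q.O :=
  Ideal.Quotient.lift _
    ((IsLocalRing.residue Q.O).comp
      (((algebraMap K K').comp P.O.subtype).codRestrict Q.O.toSubring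
        fun x => (val_algebraMap_le_one_iff h x.1).2 x.2))
    (by
      intro a ha
      change IsLocalRing.residue Q.O _ = 0
      rw [K666.Res.residue_eq_zero]
      have h1 : P.1 (a : K) < 1 := (Valuation.mem_maximalIdeal_iff (v := P.1)).1 ha
      exact (val_algebraMap_lt_one_iff h _).2 h1)

theorem resMap_residue (Q : Place k K') (P : Place k K) (h : IsOver Q P) (x : P.O) :
    resMap Q P h (IsLocalRing.residue P.O x) =
      IsLocalRing.residue Q.O ⟨algebraMap K K' x, (val_algebraMap_le_one_iff h x.1).2 x.2⟩ := rfl

theorem resMap_algebraMap [IsScalarTower k K K'] (Q : Place k K') (P : Place k K) (h : IsOver Q P)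
    (c : k) : resMap Q P h (algebraMap k _ c) = algebraMap k _ c := by
  rw [K666.Res.algebraMap_res, K666.Res.algebraMap_res, resMap_residue]
  congr 1
  ext
  exact (IsScalarTower.algebraMap_apply k K K' c).symm

/-- the map on residue fields as a `k`-linear map -/
noncomputable def resLin [IsScalarTower k K K'] (Q : Place k K') (P : Place k K) (h : IsOver Q P) :
    IsLocalRing.ResidueField P.O →ₗ[k] IsLocalRing.ResidueField Q.O where
  toFun := resMap Q P h
  map_add' := map_add _
  map_smul' c x := by
    have h1 : c • x = algebraMap k (IsLocalRing.ResidueField P.O) c * x := Algebra.smul_def c x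
    have h2 : (RingHom.id k) c • resMap Q P h x =
        algebraMap k (IsLocalRing.ResidueField Q.O) c * resMap Q P h x := Algebra.smul_def c _
    refine (congrArg (resMap Q P h) h1).trans (Eq.trans ?_ h2.symm)
    rw [map_mul, resMap_algebraMap]

theorem resMap_injective (Q : Place k K') (P : Place k K) (h : IsOver Q P) :
    Function.Injective (resMap Q P h) := RingHom.injective _

variable [IsScalarTower k K K'] [FiniteDimensional K K']

omit [FiniteDimensional K K'] in
/-- If the degrees agree then every element integral at `Q` is congruent to an element of `K`. -/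
theorem exists_congr_of_deg_le (hK : FunFld.IsFunctionField k K) (Q : Place k K') (P : Place k K)
    (h : IsOver Q P) (hQ : 0 < Q.deg) (hd : Q.deg ≤ P.deg) (z : K') (hz : Q.1 z ≤ 1) :
    ∃ c : K, P.1 c ≤ 1 ∧ Q.1 (z - algebraMap K K' c) < 1 := by
  have hfP := K660.Compare.finite_residue hK P
  have hfQ : FiniteDimensional k (IsLocalRing.ResidueField Q.O) :=
    Module.finite_of_finrank_pos hQ
  have hinj : Function.Injective (resLin Q P h) := resMap_injective Q P h
  have hle := LinearMap.finrank_le_finrank_of_injective hinj
  have heq : Module.finrank k (IsLocalRing.ResidueField P.O) =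
      Module.finrank k (IsLocalRing.ResidueField Q.O) := le_antisymm hle hd
  have hsurj : Function.Surjective (resLin Q P h) :=
    (LinearMap.injective_iff_surjective_of_finrank_eq_finrank heq).mp hinj
  obtain ⟨r, hr⟩ := hsurj (IsLocalRing.residue Q.O ⟨z, hz⟩)
  obtain ⟨c, rfl⟩ := IsLocalRing.residue_surjective r
  refine ⟨c, c.2, ?_⟩
  have h1 : IsLocalRing.residue Q.O ⟨z, hz⟩ = IsLocalRing.residue Q.O
      ⟨algebraMap K K' c, (val_algebraMap_le_one_iff h c.1).2 c.2⟩ := hr.symm
  rw [K666.Res.residue_eq] at h1
  exact h1

theorem finite_over (hK : FunFld.IsFunctionField k K) (P : FunFld.Place k K) :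
    {Q : FunFld.Place k K' | FunFld.IsOver Q P}.Finite := (fundamental hK P).1

theorem exists_over (hK : FunFld.IsFunctionField k K) (P : FunFld.Place k K) :
    ∃ Q : Place k K', IsOver Q P := by
  by_contra h
  push Not at h
  have h1 := (fundamental (K' := K') hK P).2 ∅ (fun Q => by simp [h Q])
  rw [Finset.sum_empty, eq_comm, Nat.mul_eq_zero] at h1
  have h2 := K660.Compare.place_deg_pos hK P
  have h3 : 0 < Module.finrank K K' := Module.finrank_pos
  omega

theorem sum_subset_le (hK : FunFld.IsFunctionField k K) (P : FunFld.Place k K)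
    (S : Finset (Place k K')) (hS : ∀ Q ∈ S, IsOver Q P) :
    ∑ Q ∈ S, ramIdx Q P * Q.deg ≤ Module.finrank K K' * P.deg := by
  classical
  have hfin := finite_over (K' := K') hK P
  rw [← (fundamental hK P).2 hfin.toFinset (fun Q => by simp)]
  apply Finset.sum_le_sum_of_subset
  intro Q hQ
  simpa using hS Q hQ

theorem ramIdx_mul_deg_le (hK : FunFld.IsFunctionField k K) (P : FunFld.Place k K)
    (Q : Place k K') (h : IsOver Q P) : ramIdx Q P * Q.deg ≤ Module.finrank K K' * P.deg := by
  have := sum_subset_le (K' := K') hK P {Q} (by simpa using h)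
  simpa using this

theorem exists_isGen (hK : FunFld.IsFunctionField k K) :
    ∃ t : K', K660.Places.IsGen k K' t := by
  obtain ⟨t, ht, hf⟩ := hK.1
  have htr : Transcendental k (algebraMap K K' t) := by
    rwa [transcendental_algebraMap_iff (algebraMap K K').injective]
  refine ⟨algebraMap K K' t, htr, ?_⟩
  -- `K'` is finite over the image of `k(t)`
  let F := IntermediateField.adjoin k ({t} : Set K)
  have h1 : FiniteDimensional F K' := FiniteDimensional.trans F K K'
  let F' := IntermediateField.adjoin k ({algebraMap K K' t} : Set K')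
  have hmem : ∀ x : F, algebraMap K K' x ∈ F' := by
    have hle : F ≤ F'.comap (IsScalarTower.toAlgHom k K K') := by
      rw [IntermediateField.adjoin_le_iff]
      rintro x rfl
      exact IntermediateField.mem_adjoin_simple_self k _
    intro x
    exact hle x.2
  let ι : F →+* F' := ((algebraMap K K').comp (algebraMap F K)).codRestrict F' hmem
  let _ := ι.toAlgebra
  have : IsScalarTower F F' K' := IsScalarTower.of_algebraMap_eq (fun x => rfl)
  exact FiniteDimensional.right F F' K'

theorem deg_pos (hK : FunFld.IsFunctionField k K) (Q : Place k K') : 0 < Q.deg := by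
  have hf := (K660.Compare.finite_residue_and_degG (exists_isGen (K' := K') hK) Q).1
  exact Module.finrank_pos

theorem deg_le_of_isOver (hK : FunFld.IsFunctionField k K) (P : FunFld.Place k K)
    (Q : Place k K') (h : IsOver Q P) : P.deg ≤ Q.deg := by
  have hf := (K660.Compare.finite_residue_and_degG (exists_isGen (K' := K') hK) Q).1
  have hinj : Function.Injective (resLin Q P h) := resMap_injective Q P h
  exact LinearMap.finrank_le_finrank_of_injective hinj

/-- the ramification index is at most the degree -/
theorem ramIdx_le (hK : FunFld.IsFunctionField k K) (P : FunFld.Place k K)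
    (Q : Place k K') (h : IsOver Q P) : ramIdx Q P ≤ Module.finrank K K' := by
  have h1 := ramIdx_mul_deg_le hK P Q h
  have h2 := deg_le_of_isOver hK P Q h
  have h3 := K660.Compare.place_deg_pos hK P
  have h4 : ramIdx Q P * P.deg ≤ Module.finrank K K' * P.deg :=
    (Nat.mul_le_mul_left _ h2).trans h1
  exact Nat.le_of_mul_le_mul_right h4 h3

/-- a totally ramified place is the only place above, and has the same degree -/
theorem total_ram (hK : FunFld.IsFunctionField k K) (P : FunFld.Place k K)
    (Q : Place k K') (h : IsOver Q P) (he : ramIdx Q P = Module.finrank K K') :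
    Q.deg = P.deg ∧ ∀ Q' : Place k K', IsOver Q' P → Q' = Q := by
  classical
  have h1 := ramIdx_mul_deg_le hK P Q h
  have h2 := deg_le_of_isOver hK P Q h
  have h3 := K660.Compare.place_deg_pos hK P
  have hn : 0 < Module.finrank K K' := Module.finrank_pos
  rw [he] at h1
  have h4 : Q.deg = P.deg := le_antisymm (Nat.le_of_mul_le_mul_left h1 hn) h2
  refine ⟨h4, fun Q' hQ' => ?_⟩
  by_contra hne
  have h5 := sum_subset_le hK P {Q', Q} (by
    intro R hR
    rcases Finset.mem_insert.mp hR with rfl | hR
    · exact hQ'
    · rw [Finset.mem_singleton.mp hR]; exact h)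
  rw [Finset.sum_pair hne, he, h4] at h5
  have h6 := ramIdx_pos hQ'
  have h7 := deg_pos hK Q'
  have h8 : 0 < ramIdx Q' P * Q'.deg := Nat.mul_pos h6 h7
  omega

end K666.Ext
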