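import Groth.Agent.FunFld.K667.DiffOrd
import Groth.Prelude.Def_W4bk4goldsch23Ext
import Mathlib.FieldTheory.Minpoly.Field
import Mathlib.RingTheory.Kaehler.Basic

/-! The different exponent through expansions. -/

set_option autoImplicit false

universe u v w v'

namespace K666.DiffEx

open LaurentSeries HahnSeries WithZero LocRes FunFld K667.DiffOrd

variable {k : Type u} {K K' : Type v} [Field k] [Field K] [Field K'] [Algebra k K] [Algebra K K']
  [Algebra k K'] [IsScalarTower k K K']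
  {F F' : Type w} [Field F] [Algebra k F] [Field F'] [Algebra k F']

/-- differentials proportional below are proportional above -/
theorem D_algebraMap {x x' a : K}
    (h : KaehlerDifferential.D k K x' = a • KaehlerDifferential.D k K x) :
    KaehlerDifferential.D k K' (algebraMap K K' x') =
      algebraMap K K' a • KaehlerDifferential.D k K' (algebraMap K K' x) := by
  have := congrArg (KaehlerDifferential.map k k K K') h
  rw [map_smul, KaehlerDifferential.map_D, KaehlerDifferential.map_D] at this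
  rw [this, algebraMap_smul]

theorem vDiff_algebraMap (ψ : K' →ₐ[k] F'⸨X⸩) {x x' a : K}
    (h : KaehlerDifferential.D k K x' = a • KaehlerDifferential.D k K x) :
    vDiff ψ 1 (algebraMap K K' x') =
      Valued.v (ψ (algebraMap K K' a)) * vDiff ψ 1 (algebraMap K K' x) := by
  rw [← vDiff_eq_mul_one ψ (algebraMap K K' a)]
  apply vDiff_congr
  rw [one_smul, D_algebraMap h]

theorem vDiff_below (φ : K →ₐ[k] F⸨X⸩) {x x' a : K}
    (h : KaehlerDifferential.D k K x' = a • KaehlerDifferential.D k K x) :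
    vDiff φ 1 x' = Valued.v (φ a) * vDiff φ 1 x := by
  rw [← vDiff_eq_mul_one φ a]
  apply vDiff_congr
  rw [one_smul, h]

variable {P : Place k K} {Q : Place k K'} {e : ℕ} (he : IsOverWith Q P e)
    {φ : K →ₐ[k] F⸨X⸩} (hφ : IsExpansionAt P.1 φ)
    {ψ : K' →ₐ[k] F'⸨X⸩} (hψ : IsExpansionAt Q.1 ψ)

include he hφ hψ in
/-- independence of the differential -/
theorem diffExp_congr (h1 : Module.finrank K (Ω[K⁄k]) = 1)
    (x : K) (hx : vDiff φ 1 x ≠ 0) (hx' : vDiff ψ 1 (algebraMap K K' x) ≠ 0)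
    (x' : K) (hx2 : vDiff φ 1 x' ≠ 0) :
    vDiff ψ 1 (algebraMap K K' x') ≠ 0 ∧ diffExp φ ψ e x = diffExp φ ψ e x' := by
  obtain ⟨a, ha⟩ := exists_eq_smul_D h1 (D_ne_zero_of_vDiff_ne_zero hx).2
    (KaehlerDifferential.D k K x')
  have e1 := vDiff_below φ ha
  have e2 := vDiff_algebraMap ψ ha
  rw [hφ.1] at e1
  rw [hψ.1, he a] at e2
  have ha0 : P.1 a ≠ 0 := by
    intro h; rw [h, zero_mul] at e1; exact hx2 e1
  have h2 : vDiff ψ 1 (algebraMap K K' x') ≠ 0 := by
    rw [e2]; exact mul_ne_zero (pow_ne_zero _ ha0) hx'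
  refine ⟨h2, ?_⟩
  rw [diffExp, diffExp, ordDiff, ordDiff, ordDiff, ordDiff, e1, e2, log_mul ha0 hx,
    log_mul (pow_ne_zero _ ha0) hx', log_pow]
  simp only [nsmul_eq_mul]
  ring

include he hφ hψ in
/-- the different exponent computed on a uniformizer below -/
theorem diffExp_eq_uniformizer (h1 : Module.finrank K (Ω[K⁄k]) = 1)
    (x : K) (hx : vDiff φ 1 x ≠ 0) (hx' : vDiff ψ 1 (algebraMap K K' x) ≠ 0)
    (t : K) (ht : P.1 t = exp (-1 : ℤ)) :
    vDiff ψ 1 (algebraMap K K' t) ≠ 0 ∧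
      diffExp φ ψ e x = - WithZero.log (vDiff ψ 1 (algebraMap K K' t)) := by
  have h2 : vDiff φ 1 t = 1 := vDiff_uniformizer hφ ht
  obtain ⟨h3, h4⟩ := diffExp_congr he hφ hψ h1 x hx hx' t (by rw [h2]; exact one_ne_zero)
  refine ⟨h3, ?_⟩
  rw [h4, diffExp, ordDiff, ordDiff, h2, log_one]
  ring

/-- the order of a derivative when the order is divisible by the characteristic -/
theorem v_D_le_of_eq_zero {f : F⸨X⸩} {n : ℤ} (h : Valued.v f = exp n) (hn : (n : F) = 0) :
    Valued.v (LocRes.D F f) ≤ exp n := by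
  have h' := (v_le_exp_iff f n).1 h.le
  rw [v_le_exp_iff]
  intro m hm
  rw [LocRes.D_coeff]
  rcases lt_or_eq_of_le (show m + 1 ≤ -n by omega) with h1 | h1
  · rw [h' _ h1, smul_zero]
  · rw [h1, zsmul_eq_mul]
    push_cast
    rw [hn, neg_zero, zero_mul]

include he hφ hψ in
theorem diffExp_bounds (h1 : Module.finrank K (Ω[K⁄k]) = 1)
    (x : K) (hx : vDiff φ 1 x ≠ 0) (hx' : vDiff ψ 1 (algebraMap K K' x) ≠ 0) :
    ((e : F') ≠ 0 → diffExp φ ψ e x = (e : ℤ) - 1) ∧
    ((e : F') = 0 → (e : ℤ) ≤ diffExp φ ψ e x) := by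
  obtain ⟨t, ht⟩ := P.2.2 (exp (-1 : ℤ))
  obtain ⟨h2, h3⟩ := diffExp_eq_uniformizer he hφ hψ h1 x hx hx' t ht
  have h4 : Valued.v (ψ (algebraMap K K' t)) = exp (-(e : ℤ)) := by
    rw [hψ.1, he t, ht, ← exp_nsmul]; simp
  have h5 : vDiff ψ 1 (algebraMap K K' t) = Valued.v (LocRes.D F' (ψ (algebraMap K K' t))) := by
    rw [vDiff, map_one, one_mul]
  constructor
  · intro hne
    have h6 := v_D_eq h4 (by push_cast; exact neg_ne_zero.2 hne)
    rw [h3, h5, h6, log_exp]
    ring
  · intro hz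
    have h6 := v_D_le_of_eq_zero h4 (by push_cast; rw [hz, neg_zero])
    rw [h3]
    rw [← h5] at h6
    have := (log_le_iff_le_exp h2).2 h6
    linarith

omit [Algebra k K] [IsScalarTower k K K'] in
/-- differentiating `f(s) = 0` -/
theorem deriv_aeval (ψ : K' →ₐ[k] F'⸨X⸩) (f : Polynomial K) (s : K')
    (hf : Polynomial.aeval s f = 0) :
    ψ (Polynomial.aeval s (Polynomial.derivative f)) * LocRes.D F' (ψ s) =
      - ∑ i ∈ Finset.range (f.natDegree + 1),
        LocRes.D F' (ψ (algebraMap K K' (f.coeff i))) * ψ s ^ i := by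
  have h0 : LocRes.D F' (ψ (Polynomial.aeval s f)) = 0 := by rw [hf, map_zero, map_zero]
  rw [Polynomial.aeval_eq_sum_range, map_sum, map_sum] at h0
  have h2 : ∀ i ∈ Finset.range (f.natDegree + 1),
      LocRes.D F' (ψ (f.coeff i • s ^ i)) =
        LocRes.D F' (ψ (algebraMap K K' (f.coeff i))) * ψ s ^ i +
        ψ (algebraMap K K' (f.coeff i)) * ((i : F'⸨X⸩) * ψ s ^ (i - 1)) * LocRes.D F' (ψ s) := by
    intro i _
    rw [Algebra.smul_def, map_mul, map_pow, Derivation.leibniz, Derivation.leibniz_pow]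
    simp only [smul_eq_mul, nsmul_eq_mul]
    ring
  rw [Finset.sum_congr rfl h2, Finset.sum_add_distrib, ← Finset.sum_mul] at h0
  have h3 : ψ (Polynomial.aeval s (Polynomial.derivative f)) =
      ∑ i ∈ Finset.range (f.natDegree + 1),
        ψ (algebraMap K K' (f.coeff i)) * ((i : F'⸨X⸩) * ψ s ^ (i - 1)) := by
    rw [Polynomial.derivative_apply, Polynomial.sum_over_range f (fun n => by simp), map_sum,
      map_sum]
    apply Finset.sum_congr rfl
    intro i _
    rw [map_mul, Polynomial.aeval_C, map_mul, map_pow, Polynomial.aeval_X, map_mul, map_pow, map_mul,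
      map_natCast, map_natCast]
    ring
  rw [h3]
  linear_combination h0

include he hφ hψ in
/-- The valuation of `f'(s)` for `f(s) = 0` with integral coefficients and a uniformizer as constant
term, and `s` a uniformizer. -/
theorem val_deriv_aeval (h1 : Module.finrank K (Ω[K⁄k]) = 1) (f : Polynomial K) (s : K')
    (hf : Polynomial.aeval s f = 0) (hint : ∀ i, P.1 (f.coeff i) ≤ 1)
    (h0 : P.1 (f.coeff 0) = exp (-1 : ℤ)) (hs : Q.1 s = exp (-1 : ℤ)) :
    Q.1 (Polynomial.aeval s (Polynomial.derivative f)) =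
      vDiff ψ 1 (algebraMap K K' (f.coeff 0)) := by
  set t := f.coeff 0 with ht
  have hD0 : KaehlerDifferential.D k K t ≠ 0 := D_uniformizer_ne_zero hφ h0
  have hc : ∀ i, ∃ c : K, KaehlerDifferential.D k K (f.coeff i) = c • KaehlerDifferential.D k K t :=
    fun i => exists_eq_smul_D h1 hD0 _
  choose c hc using hc
  have hPc : ∀ i, P.1 (c i) ≤ 1 := by
    intro i
    have e1 := vDiff_below φ (hc i)
    rw [vDiff_uniformizer hφ h0, mul_one, hφ.1] at e1
    rw [← e1, vDiff, map_one, one_mul]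
    exact v_D_le_one (by rw [hφ.1]; exact hint i)
  have hc0 : P.1 (c 0) = 1 := by
    have e1 := vDiff_below φ (hc 0)
    rw [← ht, vDiff_uniformizer hφ h0, mul_one, hφ.1] at e1
    exact e1.symm
  -- expansions of the coefficients
  have hDi : ∀ i, LocRes.D F' (ψ (algebraMap K K' (f.coeff i))) =
      ψ (algebraMap K K' (c i)) * LocRes.D F' (ψ (algebraMap K K' t)) := by
    intro i
    have := congrArg (ev ψ) (D_algebraMap (K' := K') (hc i))
    rw [ev_smul, ev_D, ev_D] at this
    exact this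
  have key := deriv_aeval ψ f s hf
  have h2 : ∑ i ∈ Finset.range (f.natDegree + 1),
        LocRes.D F' (ψ (algebraMap K K' (f.coeff i))) * ψ s ^ i =
      ψ (∑ i ∈ Finset.range (f.natDegree + 1), algebraMap K K' (c i) * s ^ i) *
        LocRes.D F' (ψ (algebraMap K K' t)) := by
    rw [map_sum, Finset.sum_mul]
    apply Finset.sum_congr rfl
    intro i _
    rw [hDi, map_mul, map_pow]; ring
  rw [h2] at key
  have hQc : ∀ i, Q.1 (algebraMap K K' (c i)) ≤ 1 := by
    intro i; rw [he]; exact pow_le_one' (hPc i) _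
  have h3 : Q.1 (∑ i ∈ Finset.range (f.natDegree + 1), algebraMap K K' (c i) * s ^ i) = 1 := by
    rw [Finset.sum_range_succ']
    rw [pow_zero, mul_one]
    have h4 : Q.1 (algebraMap K K' (c 0)) = 1 := by rw [he, hc0, one_pow]
    rw [Valuation.map_add_eq_of_lt_right, h4]
    rw [h4]
    apply Q.1.map_sum_lt one_ne_zero
    intro i _
    rw [map_mul, map_pow, hs]
    calc Q.1 (algebraMap K K' (c (i + 1))) * exp (-1 : ℤ) ^ (i + 1)
        ≤ 1 * exp (-1 : ℤ) ^ (i + 1) := by gcongr; exact hQc _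
      _ < 1 := by
          rw [one_mul, ← exp_nsmul, ← exp_zero, exp_lt_exp]
          simp
          omega
  have h5 := congrArg Valued.v key
  rw [Valuation.map_neg, map_mul, map_mul, hψ.1, hψ.1, h3, one_mul,
    v_D_uniformizer (by rw [hψ.1, hs]), mul_one] at h5
  rw [h5, vDiff, map_one, one_mul]

include he hφ hψ in
/-- the different exponent from the minimal polynomial of a suitable uniformizer -/
theorem ord_deriv_eq_diffExp (h1 : Module.finrank K (Ω[K⁄k]) = 1)
    (x : K) (hx : vDiff φ 1 x ≠ 0) (hx' : vDiff ψ 1 (algebraMap K K' x) ≠ 0)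
    (f : Polynomial K) (s : K')
    (hf : Polynomial.aeval s f = 0) (hint : ∀ i, P.1 (f.coeff i) ≤ 1)
    (h0 : P.1 (f.coeff 0) = exp (-1 : ℤ)) (hs : Q.1 s = exp (-1 : ℤ)) :
    Q.ord (Polynomial.aeval s (Polynomial.derivative f)) = diffExp φ ψ e x := by
  rw [(diffExp_eq_uniformizer he hφ hψ h1 x hx hx' _ h0).2, Place.ord,
    val_deriv_aeval he hφ hψ h1 f s hf hint h0 hs]

end K666.DiffEx
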