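import Mathlib.FieldTheory.RatFunc.AsPolynomial
import Mathlib.Algebra.Squarefree.Basic
import Mathlib.Algebra.CharP.Two
import Mathlib.FieldTheory.IntermediateField.Adjoin.Basic
import Mathlib.FieldTheory.Minpoly.Field
import Mathlib.FieldTheory.Separable
import Mathlib.RingTheory.Trace.Basic
import Mathlib.LinearAlgebra.Charpoly.Basic
import Mathlib.LinearAlgebra.Charpoly.ToMatrix

/-! Quadratic extensions: generators with a square in the base (char `≠ 2`) or an Artin-Schreier
generator (char `2`). -/

set_option autoImplicit false

namespace K666.Quad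

open Polynomial

/-- Every nonzero polynomial is a square times a squarefree polynomial. -/
theorem exists_sq_mul_squarefree {k : Type*} [Field k] (g : k[X]) (hg : g ≠ 0) :
    ∃ a f : k[X], a ≠ 0 ∧ g = a ^ 2 * f ∧ Squarefree f := by
  induction hn : g.natDegree using Nat.strong_induction_on generalizing g with
  | _ n ih =>
    by_cases hs : Squarefree g
    · exact ⟨1, g, one_ne_zero, by simp, hs⟩
    · simp only [Squarefree, not_forall] at hs
      obtain ⟨p, ⟨q, hq⟩, hu⟩ := hs
      have hp0 : p ≠ 0 := by rintro rfl; simp at hq; exact hg hq
      have hq0 : q ≠ 0 := by rintro rfl; simp at hq; exact hg hq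
      have hdp : 0 < p.natDegree := by
        rcases Nat.eq_zero_or_pos p.natDegree with h | h
        · exact absurd (Polynomial.isUnit_iff_degree_eq_zero.mpr
            (by rw [Polynomial.degree_eq_natDegree hp0, h]; rfl)) hu
        · exact h
      have hdeg : g.natDegree = p.natDegree + p.natDegree + q.natDegree := by
        rw [hq, Polynomial.natDegree_mul (mul_ne_zero hp0 hp0) hq0,
          Polynomial.natDegree_mul hp0 hp0]
      obtain ⟨a, f, ha, haf, hf⟩ := ih q.natDegree (by omega) q hq0 rfl
      exact ⟨p * a, f, mul_ne_zero hp0 ha, by rw [hq, haf]; ring, hf⟩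

/-- In an extension of degree `2`, any element outside the base generates. -/
theorem adjoin_eq_top_of_finrank_two {F K : Type*} [Field F] [Field K] [Algebra F K]
    (hdeg : Module.finrank F K = 2) (y : K) (hy : y ∉ Set.range (algebraMap F K)) :
    IntermediateField.adjoin F ({y} : Set K) = ⊤ := by
  have : FiniteDimensional F K := Module.finite_of_finrank_eq_succ hdeg
  have h1 : Module.finrank F (IntermediateField.adjoin F ({y} : Set K)) ∣ 2 := by
    rw [← hdeg]; exact Dvd.intro _ (Module.finrank_mul_finrank F _ K)
  rcases (Nat.dvd_prime Nat.prime_two).mp h1 with h | h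
  · exfalso
    rw [IntermediateField.finrank_eq_one_iff, IntermediateField.adjoin_simple_eq_bot_iff,
      IntermediateField.mem_bot] at h
    exact hy h
  · apply IntermediateField.eq_of_le_of_finrank_eq le_top
    rw [h, IntermediateField.finrank_top', hdeg]

theorem exists_not_mem_range {F K : Type*} [Field F] [Field K] [Algebra F K]
    (hdeg : Module.finrank F K = 2) : ∃ z : K, z ∉ Set.range (algebraMap F K) := by
  by_contra h
  push Not at h
  have : Module.finrank F K = 1 := by
    have hb : (⊤ : Subalgebra F K) = ⊥ := by
      rw [eq_bot_iff]; intro z _; exact h z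
    exact Subalgebra.bot_eq_top_iff_finrank_eq_one.mp hb.symm
  omega

/-- In an extension of degree `2`, any element satisfies a monic quadratic equation. -/
theorem exists_quadratic {F K : Type*} [Field F] [Field K] [Algebra F K]
    (hdeg : Module.finrank F K = 2) (z : K) :
    ∃ b c : F, z ^ 2 + algebraMap F K b * z + algebraMap F K c = 0 := by
  have : FiniteDimensional F K := Module.finite_of_finrank_eq_succ hdeg
  have hz : Polynomial.aeval z ((Algebra.lmul F K z).charpoly) = 0 := by
    have h := LinearMap.aeval_self_charpoly (Algebra.lmul F K z)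
    have h2 : Polynomial.aeval (Algebra.lmul F K z) ((Algebra.lmul F K z).charpoly) =
        Algebra.lmul F K (Polynomial.aeval z ((Algebra.lmul F K z).charpoly)) := by
      rw [Polynomial.aeval_algHom_apply]
    rw [h2] at h
    have := congrArg (fun f => f 1) h
    simpa using this
  have hd : ((Algebra.lmul F K z).charpoly).natDegree = 2 := by
    rw [LinearMap.charpoly_natDegree, hdeg]
  have hm : ((Algebra.lmul F K z).charpoly).Monic := LinearMap.charpoly_monic _
  set P := (Algebra.lmul F K z).charpoly
  refine ⟨P.coeff 1, P.coeff 0, ?_⟩
  rw [Polynomial.aeval_eq_sum_range, hd, Finset.sum_range_succ, Finset.sum_range_succ,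
    Finset.sum_range_one] at hz
  have h2 : P.coeff 2 = 1 := by
    have := hm.coeff_natDegree; rwa [hd] at this
  rw [h2] at hz
  simp only [Algebra.smul_def, pow_zero, mul_one, pow_one, map_one, one_mul] at hz
  rw [← hz]; ring

end K666.Quad
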