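import Groth.Agent.FunFld.K666.Ext
import Groth.Agent.FunFld.K666.Quad
import Mathlib.FieldTheory.Galois.Basic
import Mathlib.FieldTheory.Separable

/-! Places in an extension of degree two. -/

set_option autoImplicit false

namespace K666.QuadPl

open FunFld WithZero K661.Place K666.Ext

variable {k K K' : Type*} [Field k] [Field K] [Field K'] [Algebra k K] [Algebra K K'] [Algebra k K']
  [IsScalarTower k K K']

/-- In a separable extension of degree two some automorphism moves a given element not in the base. -/
theorem exists_aut (hdeg : Module.finrank K K' = 2) [Algebra.IsSeparable K K'] (y : K')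
    (hy : y ∉ Set.range (algebraMap K K')) : ∃ σ : K' ≃ₐ[K] K', σ y ≠ y := by
  have hq : Algebra.IsQuadraticExtension K K' := { finrank_eq_two' := hdeg }
  have hfin : FiniteDimensional K K' := Module.finite_of_finrank_eq_succ hdeg
  have hg : IsGalois K K' := inferInstance
  by_contra hcon
  push Not at hcon
  apply hy
  have := (IsGalois.mem_bot_iff_fixed (F := K) (E := K') y).mpr hcon
  rwa [IntermediateField.mem_bot] at this

/-- Characteristic not two: an extension of degree two is separable. -/
theorem isSeparable_of_two_ne_zero (hdeg : Module.finrank K K' = 2) (h2 : (2 : K) ≠ 0) :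
    Algebra.IsSeparable K K' := by
  have hfin : FiniteDimensional K K' := Module.finite_of_finrank_eq_succ hdeg
  refine ⟨fun x => ?_⟩
  have hint : IsIntegral K x := Algebra.IsIntegral.isIntegral x
  have hirr := minpoly.irreducible hint
  rw [IsSeparable, Polynomial.separable_iff_derivative_ne_zero hirr]
  intro hd
  have hdvd : (minpoly K x).natDegree ∣ 2 := by rw [← hdeg]; exact minpoly.degree_dvd hint
  have hpos : 0 < (minpoly K x).natDegree := hirr.natDegree_pos
  have hmon := minpoly.monic hint
  rcases (Nat.dvd_prime Nat.prime_two).mp hdvd with h | h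
  · have := congrArg (fun p => p.coeff 0) hd
    simp only [Polynomial.coeff_derivative, Polynomial.coeff_zero] at this
    have h1 : (minpoly K x).coeff 1 = 1 := by rw [← h]; exact hmon.coeff_natDegree
    rw [zero_add, h1] at this
    simp at this
  · have := congrArg (fun p => p.coeff 1) hd
    simp only [Polynomial.coeff_derivative, Polynomial.coeff_zero] at this
    have h1 : (minpoly K x).coeff 2 = 1 := by rw [← h]; exact hmon.coeff_natDegree
    rw [show 1 + 1 = 2 from rfl, h1] at this
    apply h2
    rw [one_mul] at this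
    push_cast at this
    linear_combination this

/-- composing a place with an automorphism -/
def twist (Q : Place k K') (σ : K' ≃ₐ[K] K') : Place k K' :=
  ⟨Q.1.comap (σ : K' →+* K'), fun c => by
    change Q.1 (σ (algebraMap k K' c)) ≤ 1
    rw [IsScalarTower.algebraMap_apply k K K', AlgEquiv.commutes, ← IsScalarTower.algebraMap_apply]
    exact Q.2.1 c, fun a => by
    obtain ⟨x, hx⟩ := Q.2.2 a
    exact ⟨σ.symm x, by change Q.1 (σ (σ.symm x)) = a; rw [AlgEquiv.apply_symm_apply, hx]⟩⟩

theorem twist_apply (Q : Place k K') (σ : K' ≃ₐ[K] K') (x : K') : (twist Q σ).1 x = Q.1 (σ x) := rfl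

theorem twist_isOverWith (Q : Place k K') (P : Place k K) (σ : K' ≃ₐ[K] K') (e : ℕ)
    (h : IsOverWith Q P e) : IsOverWith (twist Q σ) P e := by
  intro x
  rw [twist_apply, AlgEquiv.commutes]
  exact h x

/-- Unramified criterion in degree two. -/
theorem ramIdx_eq_one (hK : FunFld.IsFunctionField k K) (hdeg : Module.finrank K K' = 2)
    (Q : Place k K') (P : Place k K) (h : IsOver Q P) (σ : K' ≃ₐ[K] K') (u : K')
    (hu : Q.1 u ≤ 1) (hσ : Q.1 (σ u - u) = 1) : ramIdx Q P = 1 := by
  have hfin : FiniteDimensional K K' := Module.finite_of_finrank_eq_succ hdeg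
  have h1 := ramIdx_pos h
  have h2 := ramIdx_le hK P Q h
  rw [hdeg] at h2
  by_contra hne
  have he : ramIdx Q P = Module.finrank K K' := by omega
  obtain ⟨hd, huniq⟩ := total_ram hK P Q h he
  have htw : twist Q σ = Q := huniq _ ⟨_, twist_isOverWith Q P σ _ (isOverWith_ramIdx h)⟩
  obtain ⟨c, _, hc⟩ := exists_congr_of_deg_le hK Q P h (deg_pos hK Q) hd.le u hu
  have h3 : Q.1 (σ u - algebraMap K K' c) < 1 := by
    have : Q.1 (σ (u - algebraMap K K' c)) < 1 := by
      rw [← twist_apply, htw]; exact hc
    rwa [map_sub, AlgEquiv.commutes] at this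
  have h4 : σ u - u = (σ u - algebraMap K K' c) - (u - algebraMap K K' c) := by ring
  rw [h4] at hσ
  exact absurd (Q.1.map_sub_lt h3 hc) (not_lt.mpr hσ.ge)

/-- Ramified criterion in degree two. -/
theorem ramIdx_eq_two (hK : FunFld.IsFunctionField k K) (hdeg : Module.finrank K K' = 2)
    (Q : Place k K') (P : Place k K) (h : IsOver Q P) (z : K) (hz : Odd (P.ord z))
    (hQ : Even (Q.ord (algebraMap K K' z))) :
    ramIdx Q P = 2 ∧ Q.deg = P.deg ∧ ∀ Q' : Place k K', IsOver Q' P → Q' = Q := by
  have hfin : FiniteDimensional K K' := Module.finite_of_finrank_eq_succ hdeg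
  have h1 := ramIdx_pos h
  have h2 := ramIdx_le hK P Q h
  rw [hdeg] at h2
  rw [K661.Place.ord_algebraMap h] at hQ
  have he : ramIdx Q P = 2 := by
    by_contra hne
    have h3 : ramIdx Q P = 1 := by omega
    rw [h3, Nat.cast_one, one_mul] at hQ
    exact (Int.not_even_iff_odd.mpr hz) hQ
  have := total_ram hK P Q h (by rw [he, hdeg])
  exact ⟨he, this⟩

end K666.QuadPl
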