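import Groth.Prelude.Def_W4bk4goldsch23Ext
import Groth.Agent.FunFld.K666.Basic
import Groth.Agent.FunFld.K666.Res
import Mathlib.NumberTheory.RatFunc.Ostrowski
import Mathlib.FieldTheory.RatFunc.IntermediateField
import Mathlib.FieldTheory.RatFunc.Degree

/-! Places of the rational function field `k(x)`. -/

set_option autoImplicit false

namespace K666.RatPl

open FunFld K666.Basic Polynomial

variable {k : Type*} [Field k]

theorem transcendental_X : Transcendental k (RatFunc.X : RatFunc k) := RatFunc.transcendental_X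

/-- `k(x)/k` is a function field of one variable. -/
theorem isFunctionField : FunFld.IsFunctionField k (RatFunc k) := by
  refine ⟨⟨RatFunc.X, RatFunc.transcendental_X, ?_⟩, ?_⟩
  · rw [RatFunc.adjoin_X]
    exact Module.Finite.of_surjective
      (Algebra.linearMap (⊤ : IntermediateField k (RatFunc k)) (RatFunc k))
      (fun y => ⟨⟨y, IntermediateField.mem_top⟩, rfl⟩)
  · intro y hy
    by_contra h
    apply RatFunc.transcendental_of_ne_C y _ hy
    rintro ⟨c, rfl⟩
    exact h ⟨c, by rw [RatFunc.algebraMap_eq_C]⟩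

variable (P : Place k (RatFunc k))

theorem isTrivialOn : P.1.IsTrivialOn k := Valuation.IsTrivialOn.of_le_one P.1 P.2.1

theorem inf_val_X (h : 1 < P.1 (RatFunc.X : RatFunc k)) :
    P.1 (RatFunc.X : RatFunc k) = WithZero.exp (1 : ℤ) := by
  have := isTrivialOn P
  obtain ⟨f, hf⟩ := P.2.2 (WithZero.exp (1 : ℤ))
  have hf0 : f ≠ 0 := by rintro rfl; rw [map_zero] at hf; exact WithZero.exp_ne_zero hf.symm
  rw [RatFunc.valuation_eq_valuation_X_zpow_intDegree_of_one_lt_valuation_X h hf0] at hf
  have hX0 : P.1 (RatFunc.X : RatFunc k) ≠ 0 := (zero_lt_one.trans h).ne'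
  obtain ⟨a, ha⟩ : ∃ a : ℤ, P.1 (RatFunc.X : RatFunc k) = WithZero.exp a :=
    ⟨_, (WithZero.exp_log hX0).symm⟩
  rw [ha] at hf h ⊢
  rw [← WithZero.exp_zsmul, WithZero.exp_inj] at hf
  rw [← WithZero.exp_zero, WithZero.exp_lt_exp] at h
  rw [WithZero.exp_inj]
  rw [smul_eq_mul] at hf
  have : a ∣ 1 := Dvd.intro_left _ hf
  have := Int.le_of_dvd one_pos this
  omega

/-- The infinite place: `v(f) = -deg f`. -/
theorem inf_val (h : 1 < P.1 (RatFunc.X : RatFunc k)) (f : RatFunc k) (hf : f ≠ 0) :
    P.1 f = WithZero.exp f.intDegree := by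
  have := isTrivialOn P
  rw [RatFunc.valuation_eq_valuation_X_zpow_intDegree_of_one_lt_valuation_X h hf, inf_val_X P h,
    ← WithZero.exp_zsmul, smul_eq_mul, mul_one]

theorem inf_ord (h : 1 < P.1 (RatFunc.X : RatFunc k)) (f : RatFunc k) :
    P.ord f = - f.intDegree := by
  by_cases hf : f = 0
  · subst hf; simp [Place.ord]
  · rw [Place.ord, inf_val P h f hf, WithZero.log_exp]

theorem poly_le (h : P.1 (RatFunc.X : RatFunc k) ≤ 1) (g : k[X]) :
    P.1 (algebraMap k[X] (RatFunc k) g) ≤ 1 := by
  have := Place_aeval_le P RatFunc.X h g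
  rwa [RatFunc.aeval_X_left_eq_algebraMap] at this

/-- The finite places: given by an irreducible polynomial. -/
theorem fin_exists (h : P.1 (RatFunc.X : RatFunc k) ≤ 1) :
    ∃ π : k[X], Irreducible π ∧ P.1 (algebraMap k[X] (RatFunc k) π) = WithZero.exp (-1 : ℤ) ∧
      ∀ g : k[X], ¬ π ∣ g → P.1 (algebraMap k[X] (RatFunc k) g) = 1 := by
  classical
  -- the centre of `P` on the affine line
  let I : Ideal k[X] :=
    { carrier := {g | P.1 (algebraMap k[X] (RatFunc k) g) < 1}
      add_mem' := fun {a b} ha hb => by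
        change P.1 _ < 1
        rw [map_add]; exact P.1.map_add_lt ha hb
      zero_mem' := by change P.1 _ < 1; rw [map_zero, map_zero]; exact zero_lt_one
      smul_mem' := fun c x hx => by
        change P.1 _ < 1
        rw [smul_eq_mul, map_mul, map_mul]
        exact mul_lt_one_of_nonneg_of_lt_one_right (poly_le P h c) zero_le hx }
  have hI : ∀ g, g ∈ I ↔ P.1 (algebraMap k[X] (RatFunc k) g) < 1 := fun g => Iff.rfl
  have hIp : I.IsPrime := by
    refine ⟨?_, ?_⟩
    · rw [Ideal.ne_top_iff_one, hI, map_one, map_one]; exact lt_irrefl _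
    · intro a b hab
      rw [hI, map_mul, map_mul] at hab
      rw [hI, hI]
      by_contra hcon
      push Not at hcon
      have h1 := le_antisymm (poly_le P h a) hcon.1
      have h2 := le_antisymm (poly_le P h b) hcon.2
      rw [h1, h2, mul_one] at hab
      exact lt_irrefl _ hab
  obtain ⟨π, hπ⟩ : ∃ π, I = Ideal.span {π} := (IsPrincipalIdealRing.principal I).principal.imp
    fun π hπ => hπ
  have hunit : ∀ g : k[X], ¬ π ∣ g → P.1 (algebraMap k[X] (RatFunc k) g) = 1 := by
    intro g hg
    apply le_antisymm (poly_le P h g)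
    by_contra hcon
    apply hg
    rw [← Ideal.mem_span_singleton, ← hπ, hI]
    exact not_le.mp hcon
  have hπ1 : P.1 (algebraMap k[X] (RatFunc k) π) < 1 := by
    rw [← hI, hπ]; exact Ideal.mem_span_singleton_self π
  have hπ0 : π ≠ 0 := by
    rintro rfl
    -- P would be trivial
    have hall : ∀ g : k[X], g ≠ 0 → P.1 (algebraMap k[X] (RatFunc k) g) = 1 := by
      intro g hg
      apply hunit
      rwa [zero_dvd_iff]
    obtain ⟨t, ht⟩ := P.2.2 (WithZero.exp (1 : ℤ))
    have ht0 : t ≠ 0 := by rintro rfl; rw [map_zero] at ht; exact WithZero.exp_ne_zero ht.symm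
    rw [← RatFunc.num_div_denom t, map_div₀, hall _ (RatFunc.num_ne_zero ht0),
      hall _ (RatFunc.denom_ne_zero t), div_one, ← WithZero.exp_zero, WithZero.exp_inj] at ht
    omega
  have hπp : Prime π := by
    have := hIp
    rw [hπ] at this
    exact (Ideal.span_singleton_prime hπ0).mp this
  refine ⟨π, hπp.irreducible, ?_, hunit⟩
  have hPπ0 : P.1 (algebraMap k[X] (RatFunc k) π) ≠ 0 := by
    rw [Ne, map_eq_zero, FaithfulSMul.algebraMap_eq_zero_iff]; exact hπ0
  -- every nonzero polynomial has value a power of P π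
  have hpow : ∀ g : k[X], g ≠ 0 → ∃ n : ℕ, P.1 (algebraMap k[X] (RatFunc k) g) =
      P.1 (algebraMap k[X] (RatFunc k) π) ^ n := by
    intro g hg
    obtain ⟨n, q, hq, hgq⟩ := WfDvdMonoid.max_power_factor hg hπp.irreducible
    refine ⟨n, ?_⟩
    rw [hgq, map_mul, map_mul, map_pow, map_pow, hunit q hq, mul_one]
  obtain ⟨t, ht⟩ := P.2.2 (WithZero.exp (1 : ℤ))
  have ht0 : t ≠ 0 := by rintro rfl; rw [map_zero] at ht; exact WithZero.exp_ne_zero ht.symm
  obtain ⟨m, hm⟩ := hpow _ (RatFunc.num_ne_zero ht0)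
  obtain ⟨n, hn⟩ := hpow _ (RatFunc.denom_ne_zero t)
  obtain ⟨a, ha⟩ : ∃ a : ℤ, P.1 (algebraMap k[X] (RatFunc k) π) = WithZero.exp a :=
    ⟨_, (WithZero.exp_log hPπ0).symm⟩
  rw [← RatFunc.num_div_denom t, map_div₀, hm, hn, ha, ← WithZero.exp_nsmul, ← WithZero.exp_nsmul,
    ← WithZero.exp_sub, WithZero.exp_inj] at ht
  rw [ha, ← WithZero.exp_zero, WithZero.exp_lt_exp] at hπ1
  rw [ha, WithZero.exp_inj]
  have hd : a ∣ 1 := by
    rw [← ht]
    simp only [nsmul_eq_mul]
    exact dvd_sub (dvd_mul_left _ _) (dvd_mul_left _ _)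
  have := Int.le_of_dvd one_pos ((neg_dvd).mpr hd)
  have h3 : (-a).natAbs = 1 := by
    have := Int.natAbs_dvd_natAbs.mpr hd
    rw [Int.natAbs_neg]
    simpa using this
  omega

/-- the value of a polynomial at a finite place -/
theorem fin_val {π : k[X]} (h1 : P.1 (algebraMap k[X] (RatFunc k) π) = WithZero.exp (-1 : ℤ))
    (h2 : ∀ g : k[X], ¬ π ∣ g → P.1 (algebraMap k[X] (RatFunc k) g) = 1)
    (g q : k[X]) (n : ℕ) (hq : ¬ π ∣ q) (hg : g = π ^ n * q) :
    P.1 (algebraMap k[X] (RatFunc k) g) = WithZero.exp (-(n : ℤ)) := by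
  rw [hg, map_mul, map_mul, h2 q hq, mul_one, map_pow, map_pow, h1, ← WithZero.exp_nsmul]
  simp

/-- Every element integral at the infinite place is congruent to a constant. -/
theorem inf_exists_const (h : 1 < P.1 (RatFunc.X : RatFunc k)) (f : RatFunc k) (hf1 : P.1 f ≤ 1) :
    ∃ c : k, P.1 (f - algebraMap k (RatFunc k) c) < 1 := by
  by_cases hf0 : P.1 f < 1
  · exact ⟨0, by rwa [map_zero, sub_zero]⟩
  · have hf2 : P.1 f = 1 := le_antisymm hf1 (not_lt.mp hf0)
    have hfne : f ≠ 0 := by rintro rfl; rw [map_zero] at hf2; exact zero_ne_one hf2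
    have hdeg : f.intDegree = 0 := by
      rw [inf_val P h f hfne, ← WithZero.exp_zero, WithZero.exp_inj] at hf2
      exact hf2
    have hA0 : f.num ≠ 0 := RatFunc.num_ne_zero hfne
    have hB0 : f.denom ≠ 0 := RatFunc.denom_ne_zero f
    have hdeg' : f.num.natDegree = f.denom.natDegree := by
      rw [RatFunc.intDegree] at hdeg; omega
    refine ⟨f.num.leadingCoeff / f.denom.leadingCoeff, ?_⟩
    set A := f.num
    set B := f.denom
    set c := A.leadingCoeff / B.leadingCoeff
    have hBne : algebraMap k[X] (RatFunc k) B ≠ 0 := by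
      rw [Ne, FaithfulSMul.algebraMap_eq_zero_iff]; exact hB0
    have e1 : f - algebraMap k (RatFunc k) c =
        algebraMap k[X] (RatFunc k) (A - Polynomial.C c * B) / algebraMap k[X] (RatFunc k) B := by
      rw [map_sub, map_mul, sub_div, mul_div_assoc, div_self hBne, mul_one,
        RatFunc.num_div_denom]
      congr 1
    by_cases hz : A - Polynomial.C c * B = 0
    · rw [e1, hz, map_zero, zero_div, map_zero]; exact zero_lt_one
    · have hdl : (A - Polynomial.C c * B).natDegree < B.natDegree := by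
        have hlt : (A - Polynomial.C c * B).degree < B.degree := by
          have hc0 : c ≠ 0 := div_ne_zero (Polynomial.leadingCoeff_ne_zero.mpr hA0)
            (Polynomial.leadingCoeff_ne_zero.mpr hB0)
          have hdAB : A.degree = B.degree := by
            rw [Polynomial.degree_eq_natDegree hA0, Polynomial.degree_eq_natDegree hB0, hdeg']
          rw [← hdAB]
          apply Polynomial.degree_sub_lt_left
          · rw [Polynomial.degree_C_mul hc0, hdAB]
          · exact hA0
          · rw [Polynomial.leadingCoeff_C_mul_of_isUnit (by simpa using hc0)]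
            rw [div_mul_cancel₀ _ (Polynomial.leadingCoeff_ne_zero.mpr hB0)]
        exact Polynomial.natDegree_lt_natDegree hz hlt
      rw [e1, map_div₀, inf_val P h _ (by rw [Ne, FaithfulSMul.algebraMap_eq_zero_iff]; exact hz),
        inf_val P h _ hBne, RatFunc.intDegree_polynomial, RatFunc.intDegree_polynomial,
        ← WithZero.exp_sub, ← WithZero.exp_zero, WithZero.exp_lt_exp]
      omega

/-- The residue degree of the infinite place is one. -/
theorem inf_deg (h : 1 < P.1 (RatFunc.X : RatFunc k)) : P.deg = 1 :=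
  K666.Res.deg_eq_one P (inf_exists_const P h)

end K666.RatPl
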