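import Groth.Agent.FunFld.K666.QuadPl
import Groth.Agent.FunFld.K666.RatPl
import Groth.Agent.FunFld.K664.Basic
import Mathlib.Algebra.CharP.Two

/-! Places of `y² = f(x)`. -/

set_option autoImplicit false

namespace K666.Hyper

open FunFld WithZero K661.Place K666.Ext Polynomial

section conorm

variable {k K K' : Type*} [Field k] [Field K] [Field K'] [Algebra k K] [Algebra K K'] [Algebra k K']
  [IsScalarTower k K K'] [FiniteDimensional K K']

theorem conorm_single (hK : FunFld.IsFunctionField k K) (P : Place k K) (n : ℤ) :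
    conorm K' (Finsupp.single P n) =
      n • (finite_over (K' := K') hK P).toFinset.sum
        (fun Q => (ramIdx Q P : ℤ) • Finsupp.single Q 1) := by
  classical
  rw [conorm, Finsupp.sum_single_index (by simp), dif_pos (finite_over (K' := K') hK P)]

theorem deg_conorm_single (hK : FunFld.IsFunctionField k K) (P : Place k K) (n : ℤ) :
    (conorm K' (Finsupp.single P n)).deg = n * (Module.finrank K K' * P.deg) := by
  classical
  rw [conorm_single hK, K660.Compare.deg_zsmul]
  congr 1
  have h := (fundamental (K' := K') hK P).2 (finite_over (K' := K') hK P).toFinset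
    (fun Q => by simp)
  have h2 : Divisor.deg ((finite_over (K' := K') hK P).toFinset.sum
        (fun Q => (ramIdx Q P : ℤ) • Finsupp.single Q (1 : ℤ))) =
      ∑ Q ∈ (finite_over (K' := K') hK P).toFinset, ((ramIdx Q P : ℤ) * (Q.deg : ℤ)) := by
    induction (finite_over (K' := K') hK P).toFinset using Finset.induction_on with
    | empty => simp
    | insert a s ha ih =>
      rw [Finset.sum_insert ha, Finset.sum_insert ha, K660.Compare.deg_add, ih,
        K660.Compare.deg_zsmul, K660.Compare.deg_single, one_mul]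
  rw [h2]
  exact_mod_cast h

end conorm

variable {k K : Type*} [Field k] [Field K] [Algebra (RatFunc k) K]

/-- the polynomial `f` is not a square -/
theorem not_mem_range (y : K) (f : Polynomial k) (hf : Squarefree f) (hd : 1 ≤ f.natDegree)
    (heq : y ^ 2 = algebraMap (RatFunc k) K (algebraMap (Polynomial k) (RatFunc k) f)) :
    y ∉ Set.range (algebraMap (RatFunc k) K) := by
  rintro ⟨r, rfl⟩
  rw [← map_pow] at heq
  have h1 := (algebraMap (RatFunc k) K).injective heq
  have hint : IsIntegral (Polynomial k) r := by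
    refine ⟨X ^ 2 - C f, ?_, ?_⟩
    · exact Polynomial.monic_X_pow_sub_C f two_ne_zero
    · rw [Polynomial.eval₂_sub, Polynomial.eval₂_pow, Polynomial.eval₂_X, Polynomial.eval₂_C, h1,
        sub_self]
  obtain ⟨g, rfl⟩ := IsIntegrallyClosed.isIntegral_iff.mp hint
  rw [← map_pow] at h1
  have h2 : g ^ 2 = f := (IsFractionRing.injective (Polynomial k) (RatFunc k)) h1
  have h3 : IsUnit g := hf g ⟨1, by rw [← h2]; ring⟩
  have h4 : IsUnit f := by rw [← h2]; exact h3.pow 2
  have := Polynomial.natDegree_eq_zero_of_isUnit h4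
  omega

theorem two_ne_zero_of (h2 : ringChar k ≠ 2) : (2 : k) ≠ 0 := by
  intro h
  have h3 : CharP k 2 := CharTwo.of_one_ne_zero_of_two_eq_zero one_ne_zero h
  exact h2 (ringChar.eq k 2)

/-- the nontrivial automorphism -/
theorem exists_neg (h2 : ringChar k ≠ 2) (hdeg : Module.finrank (RatFunc k) K = 2)
    (y : K) (f : RatFunc k) (hy : y ∉ Set.range (algebraMap (RatFunc k) K))
    (heq : y ^ 2 = algebraMap (RatFunc k) K f) : ∃ σ : K ≃ₐ[RatFunc k] K, σ y = - y := by
  have h2k := two_ne_zero_of h2
  have h2r : (2 : RatFunc k) ≠ 0 := by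
    have : (2 : RatFunc k) = algebraMap k (RatFunc k) 2 := (map_ofNat _ 2).symm
    rw [this, Ne, FaithfulSMul.algebraMap_eq_zero_iff]; exact h2k
  have hsep := K666.QuadPl.isSeparable_of_two_ne_zero hdeg h2r
  obtain ⟨σ, hσ⟩ := K666.QuadPl.exists_aut hdeg y hy
  refine ⟨σ, ?_⟩
  have e1 : (σ y) ^ 2 = y ^ 2 := by rw [← map_pow, heq, AlgEquiv.commutes]
  rcases sq_eq_sq_iff_eq_or_eq_neg.mp e1 with h | h
  · exact absurd h hσ
  · exact h

end K666.Hyper
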