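import Groth.Prelude.Def_W4bk4goldsch45
import Groth.Agent.FunFld.K666.Basic

/-! The fibres of a projective map of a function field: same image point and local rings. -/

set_option autoImplicit false

namespace K666.SameIm

open FunFld K666.Basic

variable {k K : Type*} [Field k] [Field K] [Algebra k K]

/-- Elements of the algebra generated by the `z i`, each congruent to a constant at both `P` and `Q`,
are congruent to a common constant at both. -/
theorem adjoin_congr {ι : Type*} (P Q : Place k K) (z : ι → K)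
    (hz : ∀ i, ∃ c : k, P.1 (z i - algebraMap k K c) < 1 ∧ Q.1 (z i - algebraMap k K c) < 1)
    (u : K) (hu : u ∈ Algebra.adjoin k (Set.range z)) :
    ∃ c : k, P.1 (u - algebraMap k K c) < 1 ∧ Q.1 (u - algebraMap k K c) < 1 := by
  have hle : ∀ (R : Place k K) (a : K) (c : k), R.1 (a - algebraMap k K c) < 1 → R.1 a ≤ 1 := by
    intro R a c h
    have : a = (a - algebraMap k K c) + algebraMap k K c := by ring
    rw [this]
    exact (R.1.map_add _ _).trans (max_le h.le (R.2.1 c))
  have hmul : ∀ (R : Place k K) (a b : K) (c d : k), R.1 (a - algebraMap k K c) < 1 →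
      R.1 (b - algebraMap k K d) < 1 → R.1 (a * b - algebraMap k K (c * d)) < 1 := by
    intro R a b c d h1 h2
    have : a * b - algebraMap k K (c * d) =
        a * (b - algebraMap k K d) + (a - algebraMap k K c) * algebraMap k K d := by
      rw [map_mul]; ring
    rw [this]
    apply (R.1.map_add_lt _ _)
    · rw [map_mul]
      exact mul_lt_one_of_nonneg_of_lt_one_right (hle R a c h1) zero_le h2
    · rw [map_mul]
      exact mul_lt_one_of_nonneg_of_lt_one_left zero_le h1 (R.2.1 d)
  induction hu using Algebra.adjoin_induction with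
  | mem x hx => obtain ⟨i, rfl⟩ := hx; exact hz i
  | algebraMap r => exact ⟨r, by simp, by simp⟩
  | add a b _ _ iha ihb =>
    obtain ⟨c, hc1, hc2⟩ := iha
    obtain ⟨d, hd1, hd2⟩ := ihb
    refine ⟨c + d, ?_, ?_⟩
    · rw [map_add, add_sub_add_comm]; exact P.1.map_add_lt hc1 hd1
    · rw [map_add, add_sub_add_comm]; exact Q.1.map_add_lt hc2 hd2
  | mul a b _ _ iha ihb =>
    obtain ⟨c, hc1, hc2⟩ := iha
    obtain ⟨d, hd1, hd2⟩ := ihb
    exact ⟨c * d, hmul P a b c d hc1 hd1, hmul Q a b c d hc2 hd2⟩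

/-- a common constant decides smallness -/
theorem lt_iff_of_congr (P Q : Place k K) (u : K) (c : k)
    (h1 : P.1 (u - algebraMap k K c) < 1) (h2 : Q.1 (u - algebraMap k K c) < 1) :
    (P.1 u ≤ 1 ∧ Q.1 u ≤ 1) ∧ (P.1 u < 1 ↔ c = 0) ∧ (Q.1 u < 1 ↔ c = 0) := by
  have key : ∀ R : Place k K, R.1 (u - algebraMap k K c) < 1 → R.1 u ≤ 1 ∧ (R.1 u < 1 ↔ c = 0) := by
    intro R h
    have hu : u = (u - algebraMap k K c) + algebraMap k K c := by ring
    have h1 : R.1 u ≤ 1 := by
      rw [hu]
      exact (R.1.map_add _ _).trans (max_le h.le (R.2.1 c))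
    refine ⟨h1, fun h2 => ?_, fun h2 => ?_⟩
    · by_contra hc
      have h3 := Place_algebraMap R c hc
      have h4 : algebraMap k K c = u - (u - algebraMap k K c) := by ring
      rw [h4] at h3
      have := R.1.map_sub_lt h2 h
      rw [h3] at this
      exact lt_irrefl _ this
    · subst h2
      simpa using h
  exact ⟨⟨(key P h1).1, (key Q h2).1⟩, (key P h1).2, (key Q h2).2⟩

/-- An element of minimal order exists in a finite nonempty family with no zero entry. -/
theorem exists_min {n : ℕ} (φ : Fin (n + 1) → K) (P : Place k K) :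
    ∃ j, ∀ i, P.1 (φ i) ≤ P.1 (φ j) := by
  obtain ⟨j, _, hj⟩ := Finset.exists_max_image Finset.univ (fun i => P.1 (φ i))
    ⟨0, Finset.mem_univ _⟩
  exact ⟨j, fun i => hj i (Finset.mem_univ _)⟩

theorem sameImage_iff [IsAlgClosed k]
    (hK : FunFld.IsFunctionField k K) {n : ℕ} (φ : Fin (n + 1) → K)
    (hφ : ∀ i, φ i ≠ 0) (P Q : FunFld.Place k K) :
    FunFld.SameImage φ P Q ↔
      ∀ z : K, FunFld.InLocRing φ P z → (Q.1 z ≤ 1 ∧ (Q.1 z < 1 ↔ P.1 z < 1)) := by
  constructor
  · rintro ⟨j, hj0, hPj, hQj, hc⟩ z ⟨j', hj'0, hPj', u, hu, w, hw, hPw, hzw⟩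
    obtain ⟨c, hc1, hc2⟩ := hc j'
    have hP0 : P.1 (φ j) ≠ 0 := by rw [Ne, map_eq_zero]; exact hj0
    have hP1 : P.1 (φ j' / φ j) = 1 := by
      rw [map_div₀, div_eq_one_iff_eq hP0]
      exact le_antisymm (hPj j') (hPj' j)
    obtain ⟨-, hPc, hQc⟩ := lt_iff_of_congr P Q _ c hc1 hc2
    have hcne : c ≠ 0 := by
      intro h; rw [← hPc, hP1] at h; exact lt_irrefl _ h
    have hQ1 : Q.1 (φ j' / φ j) = 1 := by
      apply le_antisymm
      · rw [map_div₀]
        exact div_le_one_of_le₀ (hQj j') zero_le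
      · by_contra h
        exact hcne (hQc.mp (not_le.mp h))
    -- congruence of the ratios with respect to j'
    have hcc : ∀ i, ∃ d : k, P.1 (φ i / φ j' - algebraMap k K d) < 1 ∧
        Q.1 (φ i / φ j' - algebraMap k K d) < 1 := by
      intro i
      obtain ⟨d, hd1, hd2⟩ := hc i
      have e : φ i / φ j' - algebraMap k K (d / c) =
          ((φ i / φ j - algebraMap k K d) * algebraMap k K c -
            (φ j' / φ j - algebraMap k K c) * algebraMap k K d) /
              (φ j' / φ j * algebraMap k K c) := by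
        have hcK : algebraMap k K c ≠ 0 := by
          rw [Ne, FaithfulSMul.algebraMap_eq_zero_iff]; exact hcne
        rw [map_div₀]
        field_simp
        ring
      have main : ∀ R : Place k K, R.1 (φ j' / φ j) = 1 → R.1 (φ i / φ j - algebraMap k K d) < 1 →
          R.1 (φ j' / φ j - algebraMap k K c) < 1 →
          R.1 (φ i / φ j' - algebraMap k K (d / c)) < 1 := by
        intro R h1 h2 h3
        rw [e, map_div₀, map_mul R.1 (φ j' / φ j), h1, Place_algebraMap R c hcne, one_mul, div_one]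
        apply R.1.map_sub_lt
        · rw [map_mul]; exact mul_lt_one_of_nonneg_of_lt_one_left zero_le h2 (R.2.1 c)
        · rw [map_mul]; exact mul_lt_one_of_nonneg_of_lt_one_left zero_le h3 (R.2.1 d)
      exact ⟨d / c, main P hP1 hd1 hc1, main Q hQ1 hd2 hc2⟩
    obtain ⟨cu, hu1, hu2⟩ := adjoin_congr P Q _ hcc u hu
    obtain ⟨cw, hw1, hw2⟩ := adjoin_congr P Q _ hcc w hw
    obtain ⟨⟨-, hQu⟩, hPu', hQu'⟩ := lt_iff_of_congr P Q u cu hu1 hu2
    obtain ⟨⟨-, hQw⟩, hPw', hQw'⟩ := lt_iff_of_congr P Q w cw hw1 hw2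
    have hQw1 : Q.1 w = 1 := by
      apply le_antisymm hQw
      by_contra h
      have := hPw'.mpr (hQw'.mp (not_le.mp h))
      rw [hPw] at this
      exact lt_irrefl _ this
    have hPz : P.1 z = P.1 u := by rw [← hzw, map_mul, hPw, mul_one]
    have hQz : Q.1 z = Q.1 u := by rw [← hzw, map_mul, hQw1, mul_one]
    rw [hPz, hQz]
    exact ⟨hQu, by rw [hPu', hQu']⟩
  · intro h
    obtain ⟨j, hj⟩ := exists_min φ P
    have hj0 := hφ j
    have hP0 : P.1 (φ j) ≠ 0 := by rw [Ne, map_eq_zero]; exact hj0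
    have hQ0 : Q.1 (φ j) ≠ 0 := by rw [Ne, map_eq_zero]; exact hj0
    have hin : ∀ u ∈ Algebra.adjoin k (Set.range fun i => φ i / φ j), InLocRing φ P u :=
      fun u hu => ⟨j, hj0, hj, u, hu, 1, one_mem _, map_one _, mul_one u⟩
    refine ⟨j, hj0, hj, fun i => ?_, fun i => ?_⟩
    · have := (h _ (hin (φ i / φ j) (Algebra.subset_adjoin ⟨i, rfl⟩))).1
      rwa [map_div₀, div_le_one₀ (zero_lt_iff.mpr hQ0)] at this
    · have hPi : P.1 (φ i / φ j) ≤ 1 := by
        rw [map_div₀, div_le_one₀ (zero_lt_iff.mpr hP0)]; exact hj i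
      obtain ⟨c, hc⟩ := exists_const hK P _ hPi
      refine ⟨c, hc, ?_⟩
      have hmem : φ i / φ j - algebraMap k K c ∈ Algebra.adjoin k (Set.range fun i => φ i / φ j) :=
        sub_mem (Algebra.subset_adjoin ⟨i, rfl⟩) (Subalgebra.algebraMap_mem _ _)
      exact ((h _ (hin _ hmem)).2).mpr hc

end K666.SameIm
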