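import Groth.Agent.FunFld.K666.RatPl
import Mathlib.FieldTheory.Perfect
import Mathlib.RingTheory.AdjoinRoot
import Mathlib.Algebra.CharP.Two

/-! Reduction of a rational function modulo `a² + a` in characteristic two: all poles of odd order. -/

set_option autoImplicit false

namespace K666.ASRed

open FunFld K666.Basic K666.RatPl Polynomial

variable {k : Type*} [Field k]

theorem toNat_intDegree_add (x y : RatFunc k) :
    (x + y).intDegree.toNat ≤ max x.intDegree.toNat y.intDegree.toNat := by
  by_cases hxy : x + y = 0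
  · rw [hxy, RatFunc.intDegree_zero]; simp
  · by_cases hy : y = 0
    · subst hy; simp
    · have := RatFunc.intDegree_add_le hy hxy
      omega

/-- in a perfect field of characteristic two every element is a square modulo an irreducible -/
theorem exists_sq_mod [CharP k 2] [PerfectField k] (π : k[X]) (hπ : Irreducible π) (A B : k[X])
    (hB : ¬ π ∣ B) : ∃ h : k[X], h.natDegree < π.natDegree ∧ π ∣ A + h ^ 2 * B := by
  have hfact : Fact (Irreducible π) := ⟨hπ⟩
  have hπ0 : π ≠ 0 := hπ.ne_zero
  have hfin : Module.Finite k (AdjoinRoot π) := (AdjoinRoot.powerBasis hπ0).finite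
  have halg : Algebra.IsAlgebraic k (AdjoinRoot π) := Algebra.IsAlgebraic.of_finite _ _
  have hperf : PerfectField (AdjoinRoot π) := Algebra.IsAlgebraic.perfectField k
  have hchar : CharP (AdjoinRoot π) 2 :=
    charP_of_injective_algebraMap (algebraMap k (AdjoinRoot π)).injective 2
  have : ExpChar (AdjoinRoot π) 2 := ExpChar.prime Nat.prime_two
  have hpr : PerfectRing (AdjoinRoot π) 2 := PerfectField.toPerfectRing 2
  have hBne : AdjoinRoot.mk π B ≠ 0 := by rwa [Ne, AdjoinRoot.mk_eq_zero]
  obtain ⟨u, hu⟩ := (PerfectRing.bijective_frobenius (p := 2)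
    (R := AdjoinRoot π)).surjective (AdjoinRoot.mk π A / AdjoinRoot.mk π B)
  obtain ⟨h₀, rfl⟩ := AdjoinRoot.mk_surjective u
  replace hu : (AdjoinRoot.mk π h₀) ^ 2 = AdjoinRoot.mk π A / AdjoinRoot.mk π B := hu
  rw [eq_div_iff hBne] at hu
  refine ⟨h₀ % π, ?_, ?_⟩
  · have hd : 0 < π.natDegree := hπ.natDegree_pos
    by_cases hz : h₀ % π = 0
    · rw [hz]; simpa using hd
    · exact Polynomial.natDegree_lt_natDegree hz (EuclideanDomain.remainder_lt h₀ hπ0)
  · rw [← AdjoinRoot.mk_eq_zero, map_add, map_mul, map_pow]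
    have e : AdjoinRoot.mk π (h₀ % π) = AdjoinRoot.mk π h₀ := by
      rw [AdjoinRoot.mk_eq_mk]
      have := EuclideanDomain.div_add_mod h₀ π
      exact ⟨-(h₀ / π), by linear_combination this⟩
    rw [e, hu]
    exact CharTwo.add_self_eq_zero _

/-- the measure -/
noncomputable def mu (f : RatFunc k) : ℕ := f.denom.natDegree + f.intDegree.toNat

theorem char_ratFunc [CharP k 2] : CharP (RatFunc k) 2 :=
  charP_of_injective_algebraMap (algebraMap k (RatFunc k)).injective 2

/-- improving a pole of even order -/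
theorem exists_improve [CharP k 2] [PerfectField k] (f : RatFunc k)
    (P : Place k (RatFunc k)) (h1 : P.ord f < 0) (h2 : Even (P.ord f)) :
    ∃ a : RatFunc k, mu (f + (a ^ 2 + a)) < mu f := by
  obtain ⟨m', hm'⟩ := h2
  obtain ⟨m, hm⟩ : ∃ m : ℕ, -m' = m := ⟨(-m').toNat, by omega⟩
  have hmpos : 0 < m := by omega
  have hf0 : f ≠ 0 := by rintro rfl; simp [Place.ord] at h1
  have hord : P.ord f = -(2 * m : ℕ) := by push_cast; omega
  have hden : algebraMap k[X] (RatFunc k) f.denom ≠ 0 := by
    rw [Ne, FaithfulSMul.algebraMap_eq_zero_iff]; exact f.denom_ne_zero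
  have hfA : f = algebraMap k[X] (RatFunc k) f.num / algebraMap k[X] (RatFunc k) f.denom :=
    (RatFunc.num_div_denom f).symm
  rcases lt_or_ge 1 (P.1 (RatFunc.X : RatFunc k)) with hX | hX
  · -- infinite place
    have hdeg : f.intDegree = (2 * m : ℕ) := by
      have := inf_ord P hX f
      omega
    have hA0 : f.num ≠ 0 := RatFunc.num_ne_zero hf0
    have hB0 : f.denom ≠ 0 := RatFunc.denom_ne_zero f
    set A := f.num with hA
    set B := f.denom with hB
    have hdeg' : A.natDegree = 2 * m + B.natDegree := by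
      rw [RatFunc.intDegree] at hdeg
      have h3 : f.num.natDegree = A.natDegree := rfl
      have h4 : f.denom.natDegree = B.natDegree := rfl
      omega
    -- square root of the leading coefficient
    have : ExpChar k 2 := ExpChar.prime Nat.prime_two
    have hpr : PerfectRing k 2 := PerfectField.toPerfectRing 2
    obtain ⟨d, hd⟩ := (PerfectRing.bijective_frobenius (p := 2) (R := k)).surjective
      (A.leadingCoeff / B.leadingCoeff)
    replace hd : d ^ 2 = A.leadingCoeff / B.leadingCoeff := hd
    have hc0 : A.leadingCoeff / B.leadingCoeff ≠ 0 :=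
      div_ne_zero (Polynomial.leadingCoeff_ne_zero.mpr hA0) (Polynomial.leadingCoeff_ne_zero.mpr hB0)
    have hd0 : d ≠ 0 := by rintro rfl; rw [zero_pow two_ne_zero] at hd; exact hc0 hd.symm
    -- the corrected numerator
    set q : k[X] := Polynomial.C (d ^ 2) * Polynomial.X ^ (2 * m) with hq
    set r : k[X] := Polynomial.C d * Polynomial.X ^ m with hr
    have hq0 : q ≠ 0 := mul_ne_zero (by simpa using pow_ne_zero 2 hd0) (pow_ne_zero _ Polynomial.X_ne_zero)
    have hr0 : r ≠ 0 := mul_ne_zero (by simpa using hd0) (pow_ne_zero _ Polynomial.X_ne_zero)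
    have hqr : r ^ 2 = q := by
      rw [hq, hr, mul_pow, ← Polynomial.C_pow, ← pow_mul, mul_comm m 2]
    have hsum : (A + q * B).natDegree < A.natDegree := by
      have hqB : (q * B).natDegree = A.natDegree := by
        rw [Polynomial.natDegree_mul hq0 hB0, hq,
          Polynomial.natDegree_C_mul_X_pow _ _ (pow_ne_zero 2 hd0), hdeg']
      have hqBl : (q * B).leadingCoeff = A.leadingCoeff := by
        rw [Polynomial.leadingCoeff_mul, hq, Polynomial.leadingCoeff_C_mul_X_pow, hd,
          div_mul_cancel₀ _ (Polynomial.leadingCoeff_ne_zero.mpr hB0)]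
      have hneg : A + q * B = A - q * B := by rw [CharTwo.sub_eq_add]
      have hAd : 0 < A.natDegree := by omega
      by_cases hz : A - q * B = 0
      · rw [hneg, hz]; simpa using hAd
      · rw [hneg]
        apply Polynomial.natDegree_lt_natDegree hz
        apply Polynomial.degree_sub_lt_left
        · rw [Polynomial.degree_eq_natDegree hA0, Polynomial.degree_eq_natDegree
            (mul_ne_zero hq0 hB0), hqB]
        · exact hA0
        · exact hqBl.symm
    refine ⟨algebraMap k[X] (RatFunc k) r, ?_⟩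
    have hg : f + ((algebraMap k[X] (RatFunc k) r) ^ 2 + algebraMap k[X] (RatFunc k) r) =
        algebraMap k[X] (RatFunc k) (A + q * B + r * B) / algebraMap k[X] (RatFunc k) B := by
      rw [← map_pow, hqr, map_add _ (A + q * B), map_add _ A, map_mul _ q B, map_mul _ r B, add_div,
        add_div, mul_div_cancel_right₀ _ hden, mul_div_cancel_right₀ _ hden, ← hfA, add_assoc]
    rw [hg]
    have hdvd := RatFunc.denom_div_dvd (A + q * B + r * B) B
    have hle := Polynomial.natDegree_le_of_dvd hdvd hB0
    have hi : (algebraMap k[X] (RatFunc k) (A + q * B + r * B) /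
        algebraMap k[X] (RatFunc k) B).intDegree < (2 * m : ℕ) := by
      by_cases hz : A + q * B + r * B = 0
      · rw [hz, map_zero, zero_div, RatFunc.intDegree_zero]; exact_mod_cast (by omega)
      · rw [RatFunc.intDegree_div (by rw [Ne, FaithfulSMul.algebraMap_eq_zero_iff]; exact hz) hden,
          RatFunc.intDegree_polynomial, RatFunc.intDegree_polynomial]
        have h5 : (A + q * B + r * B).natDegree < A.natDegree := by
          refine lt_of_le_of_lt (Polynomial.natDegree_add_le _ _) (max_lt hsum ?_)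
          rw [Polynomial.natDegree_mul hr0 hB0, hr, Polynomial.natDegree_C_mul_X_pow _ _ hd0, hdeg']
          omega
        omega
    have hmf : mu f = B.natDegree + 2 * m := by
      rw [mu, hdeg]; rfl
    rw [hmf, mu]
    omega
  · -- finite place
    obtain ⟨π, hπ, hπ1, hπ2⟩ := fin_exists P hX
    have hB0 : f.denom ≠ 0 := RatFunc.denom_ne_zero f
    have hA0 : f.num ≠ 0 := RatFunc.num_ne_zero hf0
    have hcop := RatFunc.isCoprime_num_denom f
    obtain ⟨n, B', hB', hBB'⟩ := WfDvdMonoid.max_power_factor hB0 hπ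
    have hPB := fin_val P hπ1 hπ2 f.denom B' n hB' hBB'
    have hPf : P.1 f = WithZero.exp ((2 * m : ℕ) : ℤ) := by
      have hne : P.1 f ≠ 0 := by rw [Ne, map_eq_zero]; exact hf0
      rw [← WithZero.exp_log hne, WithZero.exp_inj]
      rw [Place.ord] at hord
      omega
    have hPA : P.1 (algebraMap k[X] (RatFunc k) f.num) =
        WithZero.exp ((2 * m : ℕ) : ℤ) * WithZero.exp (-(n : ℤ)) := by
      rw [← hPB, ← hPf, ← map_mul]
      congr 1
      conv_rhs => enter [1]; rw [hfA]
      rw [div_mul_cancel₀ _ hden]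
    have hn : n ≠ 0 := by
      rintro rfl
      have h3 := poly_le P hX f.num
      rw [hPA, ← WithZero.exp_add, ← WithZero.exp_zero, WithZero.exp_le_exp] at h3
      push_cast at h3; omega
    have hπA : ¬ π ∣ f.num := by
      intro h3
      have h4 : π ∣ f.denom := by rw [hBB']; exact Dvd.dvd.mul_right (dvd_pow_self π hn) _
      exact hπ.not_isUnit (hcop.isUnit_of_dvd' h3 h4)
    have hn2 : n = 2 * m := by
      rw [hπ2 _ hπA, ← WithZero.exp_add, ← WithZero.exp_zero, WithZero.exp_inj] at hPA
      omega
    obtain ⟨h, hh1, C', hh2⟩ := exists_sq_mod π hπ f.num B' hB'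
    have hπ0 : π ≠ 0 := hπ.ne_zero
    have hπK : algebraMap k[X] (RatFunc k) π ≠ 0 := by
      rw [Ne, FaithfulSMul.algebraMap_eq_zero_iff]; exact hπ0
    have hB'0 : B' ≠ 0 := by rintro rfl; exact hB' (dvd_zero _)
    have hB'K : algebraMap k[X] (RatFunc k) B' ≠ 0 := by
      rw [Ne, FaithfulSMul.algebraMap_eq_zero_iff]; exact hB'0
    refine ⟨algebraMap k[X] (RatFunc k) h / algebraMap k[X] (RatFunc k) π ^ m, ?_⟩
    obtain ⟨m₁, rfl⟩ : ∃ m₁, m = m₁ + 1 := ⟨m - 1, by omega⟩
    -- the new function
    have hg : f + ((algebraMap k[X] (RatFunc k) h / algebraMap k[X] (RatFunc k) π ^ (m₁ + 1)) ^ 2 +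
        algebraMap k[X] (RatFunc k) h / algebraMap k[X] (RatFunc k) π ^ (m₁ + 1)) =
        algebraMap k[X] (RatFunc k) (C' + h * π ^ m₁ * B') /
          algebraMap k[X] (RatFunc k) (π ^ (2 * m₁ + 1) * B') := by
      have e1 : algebraMap k[X] (RatFunc k) f.num =
          algebraMap k[X] (RatFunc k) π * algebraMap k[X] (RatFunc k) C' -
            algebraMap k[X] (RatFunc k) h ^ 2 * algebraMap k[X] (RatFunc k) B' := by
        rw [← map_mul, ← hh2, map_add, map_mul, map_pow]; ring
      rw [hfA, hBB', hn2, e1]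
      have hch := char_ratFunc (k := k)
      simp only [map_add, map_mul, map_pow]
      field_simp
      ring
    rw [hg]
    have hdvd := RatFunc.denom_div_dvd (C' + h * π ^ m₁ * B') (π ^ (2 * m₁ + 1) * B')
    have hle := Polynomial.natDegree_le_of_dvd hdvd (mul_ne_zero (pow_ne_zero _ hπ0) hB'0)
    have hπd : 0 < π.natDegree := hπ.natDegree_pos
    have hBd : f.denom.natDegree = (2 * m₁ + 2) * π.natDegree + B'.natDegree := by
      rw [hBB', Polynomial.natDegree_mul (pow_ne_zero _ hπ0) hB'0, Polynomial.natDegree_pow, hn2]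
      ring
    have hle2 : (π ^ (2 * m₁ + 1) * B').natDegree = (2 * m₁ + 1) * π.natDegree + B'.natDegree := by
      rw [Polynomial.natDegree_mul (pow_ne_zero _ hπ0) hB'0, Polynomial.natDegree_pow]
    have hid : (algebraMap k[X] (RatFunc k) (C' + h * π ^ m₁ * B') /
          algebraMap k[X] (RatFunc k) (π ^ (2 * m₁ + 1) * B')).intDegree.toNat ≤
          f.intDegree.toNat := by
      rw [← hg]
      refine (toNat_intDegree_add _ _).trans (max_le le_rfl ?_)
      refine (toNat_intDegree_add _ _).trans ?_
      have hdiv : (algebraMap k[X] (RatFunc k) h /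
          algebraMap k[X] (RatFunc k) π ^ (m₁ + 1)).intDegree ≤ 0 := by
        by_cases hz : h = 0
        · rw [hz, map_zero, zero_div, RatFunc.intDegree_zero]
        · rw [← map_pow, RatFunc.intDegree_div (by rw [Ne, FaithfulSMul.algebraMap_eq_zero_iff]; exact hz)
            (by rw [Ne, FaithfulSMul.algebraMap_eq_zero_iff]; exact pow_ne_zero _ hπ0),
            RatFunc.intDegree_polynomial, RatFunc.intDegree_polynomial, Polynomial.natDegree_pow]
          have : π.natDegree ≤ (m₁ + 1) * π.natDegree := Nat.le_mul_of_pos_left _ (Nat.succ_pos _)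
          omega
      have hdiv2 : ((algebraMap k[X] (RatFunc k) h /
          algebraMap k[X] (RatFunc k) π ^ (m₁ + 1)) ^ 2).intDegree ≤ 0 := by
        by_cases hz : (algebraMap k[X] (RatFunc k) h /
          algebraMap k[X] (RatFunc k) π ^ (m₁ + 1)) = 0
        · rw [hz, zero_pow two_ne_zero, RatFunc.intDegree_zero]
        · rw [pow_two, RatFunc.intDegree_mul hz hz]; omega
      omega
    rw [mu, mu]
    have hexp : (2 * m₁ + 2) * π.natDegree = (2 * m₁ + 1) * π.natDegree + π.natDegree := by ring
    omega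

/-- Every class modulo `a² + a` contains a function all of whose poles have odd order. -/
theorem exists_odd_poles [CharP k 2] [PerfectField k] (f₀ : RatFunc k) :
    ∃ a : RatFunc k, ∀ P : Place k (RatFunc k), P.ord (f₀ + (a ^ 2 + a)) < 0 →
      Odd (P.ord (f₀ + (a ^ 2 + a))) := by
  have hch := char_ratFunc (k := k)
  induction hn : mu f₀ using Nat.strong_induction_on generalizing f₀ with
  | _ n ih =>
    by_cases hall : ∀ P : Place k (RatFunc k), P.ord f₀ < 0 → Odd (P.ord f₀)
    · exact ⟨0, by simpa using hall⟩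
    · push Not at hall
      obtain ⟨P, hP1, hP2⟩ := hall
      obtain ⟨b, hb⟩ := exists_improve f₀ P hP1 (Int.not_odd_iff_even.mp hP2)
      obtain ⟨a, ha⟩ := ih _ (hn ▸ hb) (f₀ + (b ^ 2 + b)) rfl
      refine ⟨b + a, ?_⟩
      have e : f₀ + ((b + a) ^ 2 + (b + a)) = f₀ + (b ^ 2 + b) + (a ^ 2 + a) := by
        have : (2 : RatFunc k) = 0 := CharTwo.two_eq_zero
        linear_combination (b * a) * this
      rw [e]
      exact ha

end K666.ASRed
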