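import Groth.Agent.FunFld.K661.OverFF
import Groth.Agent.FunFld.K660.Compare
import Groth.Agent.FunFld.K664.Basic
import Groth.Agent.FunFld.K666.Res
import Mathlib.RingTheory.TensorProduct.Finite

/-! `O_P[k']` inside the integral closure of `O_P` in `k' ⊗ K`. -/

set_option autoImplicit false

namespace K666.ConstR

open FunFld WithZero

section approx

variable {k K : Type*} [Field k] [Field K] [Algebra k K]

/-- lifts of the residue field -/
theorem exists_lifts (hK : IsFunctionField k K) (P : Place k K) :
    ∃ U : Submodule k K, FiniteDimensional k U ∧ ∀ x : K, P.1 x ≤ 1 → ∃ u ∈ U, P.1 (x - u) < 1 := by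
  have hf := K660.Compare.finite_residue hK P
  let b := Module.finBasis k (IsLocalRing.ResidueField P.O)
  choose l hl using fun i => IsLocalRing.residue_surjective (b i)
  refine ⟨Submodule.span k (Set.range fun i => (l i : K)), ?_, ?_⟩
  · exact FiniteDimensional.span_of_finite k (Set.finite_range _)
  · intro x hx
    set r := IsLocalRing.residue P.O ⟨x, hx⟩ with hr
    refine ⟨∑ i, b.repr r i • (l i : K), ?_, ?_⟩
    · exact Submodule.sum_mem _ fun i _ => Submodule.smul_mem _ _ (Submodule.subset_span ⟨i, rfl⟩)
    · have h1 : IsLocalRing.residue P.O (∑ i, algebraMap k P.O (b.repr r i) * l i) = r := by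
        rw [map_sum]
        conv_rhs => rw [← b.sum_repr r]
        apply Finset.sum_congr rfl
        intro i _
        rw [map_mul, hl i]
        exact (Algebra.smul_def (b.repr r i) (b i)).symm
      rw [hr, eq_comm, K666.Res.residue_eq] at h1
      have h2 : ((∑ i, algebraMap k P.O (b.repr r i) * l i : P.O) : K) =
          ∑ i, b.repr r i • (l i : K) := by
        rw [← ValuationSubring.algebraMap_apply, map_sum]
        apply Finset.sum_congr rfl
        intro i _
        rw [map_mul, Algebra.smul_def]
        rfl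
      rw [← h2]
      exact h1

/-- approximations to any order from a finite dimensional space -/
theorem exists_approx_space (hK : IsFunctionField k K) (P : Place k K) (n : ℕ) :
    ∃ W : Submodule k K, FiniteDimensional k W ∧
      ∀ x : K, P.1 x ≤ 1 → ∃ w ∈ W, P.1 (x - w) ≤ exp (-(n : ℤ)) := by
  obtain ⟨U, hU, hU2⟩ := exists_lifts hK P
  obtain ⟨t, ht⟩ := K664.exists_uniformizer P
  induction n with
  | zero => exact ⟨⊥, inferInstance, fun x hx => ⟨0, Submodule.zero_mem _, by simpa using hx⟩⟩
  | succ n ih =>
    obtain ⟨W, hW, hW2⟩ := ih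
    refine ⟨W ⊔ U.map (LinearMap.mulLeft k (t ^ n)), inferInstance, fun x hx => ?_⟩
    obtain ⟨w, hw, hw2⟩ := hW2 x hx
    have htn : P.1 (t ^ n) = exp (-(n : ℤ)) := by
      rw [map_pow, ht, ← exp_nsmul]; simp
    have ht0 : t ^ n ≠ 0 := by
      intro h; rw [h, map_zero] at htn; exact exp_ne_zero htn.symm
    have h1 : P.1 ((x - w) / t ^ n) ≤ 1 := by
      rw [map_div₀, htn]
      exact div_le_one_of_le₀ hw2 zero_le
    obtain ⟨u, hu, hu2⟩ := hU2 _ h1
    refine ⟨w + t ^ n * u, Submodule.add_mem_sup hw ⟨u, hu, rfl⟩, ?_⟩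
    have e : x - (w + t ^ n * u) = t ^ n * ((x - w) / t ^ n - u) := by
      field_simp
      ring
    rw [e, map_mul, htn]
    have h2 : P.1 ((x - w) / t ^ n - u) ≤ exp (-1 : ℤ) := (K661.Place.val_lt_one_iff_le P _).mp hu2
    calc exp (-(n : ℤ)) * P.1 ((x - w) / t ^ n - u) ≤ exp (-(n : ℤ)) * exp (-1 : ℤ) := by gcongr
      _ = exp (-((n + 1 : ℕ) : ℤ)) := by rw [← exp_add]; congr 1; push_cast; ring

end approx

section ext

variable {k k' K K' : Type*} [Field k] [Field k'] [Field K] [Field K']
    [Algebra k k'] [FiniteDimensional k k'] [Algebra k K] [Algebra K K'] [Algebra k' K'] [Algebra k K']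
    [IsScalarTower k k' K'] [IsScalarTower k K K']
    (h : Function.Bijective (Algebra.TensorProduct.productMap
      (IsScalarTower.toAlgHom k k' K') (IsScalarTower.toAlgHom k K K')))

omit [FiniteDimensional k k'] in
include h in
/-- every element is a combination of a basis of `k'` with coefficients in `K` -/
theorem exists_sum {n : ℕ} (b : Module.Basis (Fin n) k k') (z : K') :
    ∃ a : Fin n → K, z = ∑ i, algebraMap K K' (a i) * algebraMap k' K' (b i) := by
  obtain ⟨w, rfl⟩ := h.2 z
  induction w using TensorProduct.induction_on with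
  | zero => exact ⟨0, by simp⟩
  | add x y hx hy =>
    obtain ⟨a, ha⟩ := hx
    obtain ⟨c, hc⟩ := hy
    refine ⟨a + c, ?_⟩
    rw [map_add, ha, hc, ← Finset.sum_add_distrib]
    simp only [Pi.add_apply, map_add, add_mul]
  | tmul x y =>
    refine ⟨fun i => algebraMap k K (b.repr x i) * y, ?_⟩
    rw [Algebra.TensorProduct.productMap_apply_tmul]
    simp only [IsScalarTower.coe_toAlgHom']
    conv_lhs => rw [← b.sum_repr x]
    rw [map_sum, Finset.sum_mul]
    apply Finset.sum_congr rfl
    intro i _
    rw [Algebra.smul_def, map_mul, map_mul, ← IsScalarTower.algebraMap_apply k k' K',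
      ← IsScalarTower.algebraMap_apply k K K']
    ring

include h in
theorem finiteDimensional : FiniteDimensional K K' := by
  classical
  let b := Module.finBasis k k'
  refine ⟨⟨Finset.univ.image (fun i => algebraMap k' K' (b i)), ?_⟩⟩
  rw [eq_top_iff]
  intro z _
  obtain ⟨a, rfl⟩ := exists_sum h b z
  apply Submodule.sum_mem
  intro i _
  rw [← Algebra.smul_def]
  apply Submodule.smul_mem
  apply Submodule.subset_span
  simp

include h in
/-- every element becomes an element of `O_P[k']` after multiplication by a power of the uniformizer -/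
theorem exists_mul_mem (P : Place k K) [Algebra P.O K'] [IsScalarTower P.O K K'] (t : K)
    (ht : P.1 t = exp (-1 : ℤ)) (z : K') :
    ∃ N : ℕ, ∀ n, N ≤ n → algebraMap K K' (t ^ n) * z ∈
      Algebra.adjoin P.O (Set.range (algebraMap k' K')) := by
  have := finiteDimensional h
  let b := Module.finBasis k k'
  obtain ⟨a, rfl⟩ := exists_sum h b z
  refine ⟨Finset.univ.sup (fun i => (-(P.ord (a i))).toNat), fun n hn => ?_⟩
  rw [Finset.mul_sum]
  apply Subalgebra.sum_mem
  intro i _
  have h1 : (-(P.ord (a i))).toNat ≤ n :=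
    (Finset.le_sup (f := fun i => (-(P.ord (a i))).toNat) (Finset.mem_univ i)).trans hn
  have h2 : P.1 (t ^ n * a i) ≤ 1 := by
    by_cases ha : a i = 0
    · rw [ha, mul_zero, map_zero]; exact zero_le_one
    · rw [map_mul, map_pow, ht, K664.val_eq_exp P ha, ← exp_nsmul, ← exp_add, ← exp_zero, exp_le_exp]
      simp only [smul_neg, nsmul_eq_mul, mul_one]
      omega
  rw [← mul_assoc, ← map_mul]
  apply Subalgebra.mul_mem
  · have : algebraMap K K' (t ^ n * a i) = algebraMap P.O K' ⟨_, h2⟩ :=
      (K661.Over.algebraMap_O (K' := K') P ⟨_, h2⟩).symm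
    rw [this]
    exact Subalgebra.algebraMap_mem _ _
  · exact Algebra.subset_adjoin ⟨_, rfl⟩

include h in
/-- the conductor -/
theorem exists_conductor (hK : IsFunctionField k K) (P : Place k K) [Algebra P.O K']
    [IsScalarTower P.O K K'] (t : K) (ht : P.1 t = exp (-1 : ℤ)) :
    ∃ n : ℕ, ∀ r ∈ integralClosure P.O K', algebraMap K K' (t ^ n) * r ∈
      Algebra.adjoin P.O (Set.range (algebraMap k' K')) := by
  have hfin := finiteDimensional h
  have hf := K661.OverFF.finite_O (K' := K') (K660.Places.exists_isGen hK) P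
  have hfg : (Subalgebra.toSubmodule (integralClosure P.O K')).FG := Module.Finite.iff_fg.1 hf
  obtain ⟨S, hS⟩ := hfg
  choose N hN using fun z => exists_mul_mem h P t ht z
  refine ⟨S.sup N, fun r hr => ?_⟩
  have hr2 : r ∈ Submodule.span P.O (S : Set K') := by rw [hS]; exact hr
  induction hr2 using Submodule.span_induction with
  | mem x hx => exact hN x _ (Finset.le_sup hx)
  | zero => rw [mul_zero]; exact Subalgebra.zero_mem _
  | add x y hx hy ihx ihy =>
    have hx' : x ∈ integralClosure P.O K' := by
      have : x ∈ Subalgebra.toSubmodule (integralClosure P.O K') := by rw [← hS]; exact hx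
      exact this
    have hy' : y ∈ integralClosure P.O K' := by
      have : y ∈ Subalgebra.toSubmodule (integralClosure P.O K') := by rw [← hS]; exact hy
      exact this
    rw [mul_add]; exact Subalgebra.add_mem _ (ihx hx') (ihy hy')
  | smul a x hx ihx =>
    have hx' : x ∈ integralClosure P.O K' := by
      have : x ∈ Subalgebra.toSubmodule (integralClosure P.O K') := by rw [← hS]; exact hx
      exact this
    rw [mul_smul_comm]
    exact Subalgebra.smul_mem _ (ihx hx') a

include h in
theorem exists_finite_complement (hK : IsFunctionField k K) (P : Place k K) [Algebra P.O K']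
    [IsScalarTower P.O K K'] :
    ∃ V : Submodule k K', FiniteDimensional k V ∧ ∀ r ∈ integralClosure P.O K',
        ∃ s ∈ Algebra.adjoin P.O (Set.range (algebraMap k' K')), r - s ∈ V := by
  classical
  have hfin := finiteDimensional h
  have hf := K661.OverFF.finite_O (K' := K') (K660.Places.exists_isGen hK) P
  have hfg : (Subalgebra.toSubmodule (integralClosure P.O K')).FG := Module.Finite.iff_fg.1 hf
  obtain ⟨S, hS⟩ := hfg
  obtain ⟨t, ht⟩ := K664.exists_uniformizer P
  obtain ⟨n, hn⟩ := exists_conductor h hK P t ht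
  obtain ⟨W, hW, hW2⟩ := exists_approx_space hK P n
  let lm : K' → K →ₗ[k] K' := fun s =>
    (LinearMap.mulRight k s).comp (IsScalarTower.toAlgHom k K K').toLinearMap
  have hlm : ∀ s w, lm s w = algebraMap K K' w * s := fun s w => rfl
  refine ⟨⨆ s : S, W.map (lm s), ?_, ?_⟩
  · exact Submodule.finiteDimensional_iSup _
  · intro r hr
    have htn : P.1 (t ^ n) = exp (-(n : ℤ)) := by
      rw [map_pow, ht, ← exp_nsmul]; simp
    have ht0 : t ^ n ≠ 0 := by
      intro h0; rw [h0, map_zero] at htn; exact exp_ne_zero htn.symm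
    have hmemS : ∀ s ∈ S, (s : K') ∈ integralClosure P.O K' := by
      intro s hs
      have : s ∈ Subalgebra.toSubmodule (integralClosure P.O K') := by
        rw [← hS]; exact Submodule.subset_span hs
      exact this
    have hr2 : r ∈ Submodule.span P.O (S : Set K') := by rw [hS]; exact hr
    obtain ⟨f, -, hf2⟩ := Submodule.mem_span_finset.mp hr2
    choose w hw hw2 using fun s => hW2 (f s : K) (f s).2
    have hq : ∀ s, P.1 (((f s : K) - w s) / t ^ n) ≤ 1 := by
      intro s
      rw [map_div₀, htn]
      exact div_le_one_of_le₀ (hw2 s) zero_le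
    refine ⟨∑ s ∈ S, (⟨_, hq s⟩ : P.O) • (algebraMap K K' (t ^ n) * s), ?_, ?_⟩
    · apply Subalgebra.sum_mem
      intro s hs
      exact Subalgebra.smul_mem _ (hn s (hmemS s hs)) _
    · rw [← hf2, ← Finset.sum_sub_distrib]
      apply Submodule.sum_mem
      intro s hs
      have e : f s • s - (⟨_, hq s⟩ : P.O) • (algebraMap K K' (t ^ n) * s) = lm s (w s) := by
        rw [hlm, Algebra.smul_def, Algebra.smul_def, K661.Over.algebraMap_O, K661.Over.algebraMap_O]
        have e2 : (f s : K) = w s + (((f s : K) - w s) / t ^ n) * t ^ n := by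
          rw [div_mul_cancel₀ _ ht0]; ring
        conv_lhs => enter [1]; rw [e2]
        rw [map_add, map_mul]
        ring
      rw [e]
      exact Submodule.mem_iSup_of_mem ⟨s, hs⟩ ⟨_, hw s, rfl⟩

end ext

end K666.ConstR
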