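import Groth.Agent.FunFld.K666.IntOver
import Groth.Agent.FunFld.K668.ConstExt
import Groth.Agent.FunFld.K660.Sep
import Mathlib.RingTheory.DedekindDomain.Different
import Mathlib.FieldTheory.Minpoly.IsIntegrallyClosed

/-! A uniform denominator for the integral closure in constant field extensions. -/

set_option autoImplicit false

namespace K666.DualAdj

open Polynomial FunFld K666.IntOver K661.Place K661.Over IsDedekindDomain K660.Places

section Dual

variable {A E L : Type*} [CommRing A] [IsDomain A] [IsIntegrallyClosed A] [Field E] [Algebra A E]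
  [IsFractionRing A E] [Field L] [Algebra E L] [Algebra A L] [IsScalarTower A E L]
  [FiniteDimensional E L] [Algebra.IsSeparable E L]

open Pointwise in
/-- `f'(x) z ∈ A[x]` for `z` integral and `f(x) = 0`, `f ∈ A[X]`. -/
theorem deriv_mul_mem {x : L} (hx : Algebra.adjoin E ({x} : Set L) = ⊤) (hAx : IsIntegral A x)
    (f : A[X]) (hf : aeval x f = 0) {z : L} (hz : IsIntegral A z) :
    aeval x (derivative f) * z ∈ Algebra.adjoin A ({x} : Set L) := by
  have hdual := traceForm_dualSubmodule_adjoin A E hx hAx
  have hle : Algebra.adjoin A ({x} : Set L) ≤ integralClosure A L :=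
    Algebra.adjoin_le (Set.singleton_subset_iff.mpr hAx)
  have h1 : z ∈ (Algebra.traceForm E L).dualSubmodule
      (Subalgebra.toSubmodule (Algebra.adjoin A {x})) := by
    rw [LinearMap.BilinForm.mem_dualSubmodule]
    intro b hb
    rw [Algebra.traceForm_apply, Submodule.mem_one]
    have h2 : IsIntegral A (Algebra.trace E L (z * b)) :=
      Algebra.isIntegral_trace (hz.mul (hle hb))
    exact IsIntegrallyClosed.isIntegral_iff.1 h2
  rw [hdual, Submodule.mem_smul_pointwise_iff_exists] at h1
  obtain ⟨b, hb, rfl⟩ := h1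
  -- the minimal polynomial divides `f`
  have hfs : FaithfulSMul A L := by
    rw [faithfulSMul_iff_algebraMap_injective, IsScalarTower.algebraMap_eq A E L]
    exact (algebraMap E L).injective.comp (IsFractionRing.injective A E)
  have htf : Module.IsTorsionFree A L := inferInstance
  obtain ⟨g, hg⟩ := minpoly.isIntegrallyClosed_dvd hAx hf
  have h3 : aeval x (derivative f) =
      aeval x (derivative (minpoly A x)) * aeval x g := by
    rw [hg, derivative_mul, map_add, map_mul, map_mul, minpoly.aeval, zero_mul, add_zero]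
  have h4 : aeval x (derivative (minpoly E x)) = aeval x (derivative (minpoly A x)) := by
    rw [minpoly.isIntegrallyClosed_eq_field_fractions' E hAx, derivative_map,
      aeval_map_algebraMap]
  have hsep : IsSeparable E x := Algebra.IsSeparable.isSeparable E x
  have h5 : aeval x (derivative (minpoly E x)) ≠ 0 :=
    Polynomial.Separable.aeval_derivative_ne_zero hsep (minpoly.aeval E x)
  rw [h3, ← h4, smul_eq_mul, mul_comm (aeval x (derivative (minpoly E x))), mul_assoc,
    mul_inv_cancel_left₀ h5]
  refine Subalgebra.mul_mem _ ?_ hb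
  rw [Algebra.adjoin_singleton_eq_range_aeval]
  exact ⟨g, rfl⟩

end Dual

section FF

variable {k k' K K' : Type*} [Field k] [Field k'] [Field K] [Field K']
  [Algebra k k'] [Algebra k K] [Algebra K K'] [Algebra k' K'] [Algebra k K']
  [IsScalarTower k k' K'] [IsScalarTower k K K']

/-- Every element of `O_P` is a quotient of elements integral over `k[t]`. -/
theorem exists_mul_isIntegral {t : K} (h : IsGen k K t) (P : Place k K) (ht : P.1 t ≤ 1)
    (a : K) (ha : P.1 a ≤ 1) :
    ∃ s : K, P.1 s = 1 ∧ IsIntegral (Algebra.adjoin k {t}) s ∧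
      IsIntegral (Algebra.adjoin k {t}) (s * a) := by
  have hF : Fact (IsGen k K t) := ⟨h⟩
  obtain ⟨p, rfl⟩ := exists_ofPrime_eq (t := t) P ht
  let := instDed (k := k) (K := K) (t := t)
  let := instFrac (k := k) (K := K) (t := t)
  obtain ⟨n, d, hnd⟩ := p.exists_primeCompl_mul_eq_of_integer a ha
  refine ⟨((d : integralClosure (Algebra.adjoin k {t}) K) : K), ?_,
    (d : integralClosure (Algebra.adjoin k {t}) K).2, ?_⟩
  · have := (p.intValuation_eq_one_iff_mem_primeCompl d).2 d.2
    rw [← p.valuation_of_algebraMap (K := K)] at this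
    exact this
  · have h1 : ((d : integralClosure (Algebra.adjoin k {t}) K) : K) * a = n := by
      rw [mul_comm]; exact hnd
    rw [h1]
    exact n.2

omit [Algebra K K'] [Algebra k K'] [IsScalarTower k k' K'] [IsScalarTower k K K'] [Algebra k k']
  [Algebra k K] [Algebra k' K'] in
theorem mem_adjoin_algebraMap [Algebra k K] [Algebra K K'] [Algebra k k'] [Algebra k' K']
    [Algebra k K'] [IsScalarTower k k' K'] [IsScalarTower k K K']
    {t : K} {a : K} (ha : a ∈ Algebra.adjoin k ({t} : Set K)) :
    algebraMap K K' a ∈ Algebra.adjoin k' ({algebraMap K K' t} : Set K') := by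
  induction ha using Algebra.adjoin_induction with
  | mem x hx =>
    rw [Set.mem_singleton_iff] at hx
    rw [hx]
    exact Algebra.subset_adjoin rfl
  | algebraMap r =>
    rw [← IsScalarTower.algebraMap_apply k K K', IsScalarTower.algebraMap_apply k k' K']
    exact Subalgebra.algebraMap_mem _ _
  | add x y _ _ hx hy => rw [map_add]; exact add_mem hx hy
  | mul x y _ _ hx hy => rw [map_mul]; exact mul_mem hx hy

open scoped IntermediateField.algebraAdjoinAdjoin in
/-- The uniform denominator `f'(θ)`. -/
theorem deriv_mul_mem_ff (h : Function.Bijective (K661.Scalar.mulMap k k' K K'))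
    {t : K} {t' : K'} (ht' : algebraMap K K' t = t') (hgen : IsGen k K t)
    {θ : K} (hθ : IsIntegral (Algebra.adjoin k {t}) θ)
    (hθtop : Algebra.adjoin (IntermediateField.adjoin k {t}) ({θ} : Set K) = ⊤)
    (hsep : IsSeparable (IntermediateField.adjoin k {t}) θ)
    {z : K'} (hz : IntOver (integralClosure (Algebra.adjoin k {t}) K).toSubring
      (algebraMap K K') z) :
    algebraMap K K' (aeval θ (derivative (minpoly (Algebra.adjoin k {t}) θ))) * z ∈
      Subring.closure (algebraMap K K' '' {t, θ} ∪ Set.range (algebraMap k' K')) := by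
  have hgen' : IsGen k' K' t' := by rw [← ht']; exact K668.ConstExt.isGen h hgen
  have hm1 : ∀ a ∈ Algebra.adjoin k ({t} : Set K),
      algebraMap K K' a ∈ Algebra.adjoin k' ({t'} : Set K') := by
    rw [← ht']; exact fun a ha => mem_adjoin_algebraMap ha
  have hm2 : ∀ a ∈ IntermediateField.adjoin k ({t} : Set K),
      algebraMap K K' a ∈ IntermediateField.adjoin k' ({t'} : Set K') := by
    rw [← ht']; exact fun a ha => K668.ConstExt.algebraMap_mem_adjoin ha
  -- notation
  let A0 := Algebra.adjoin k ({t} : Set K)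
  let E0 := IntermediateField.adjoin k ({t} : Set K)
  let A1 := Algebra.adjoin k' ({t'} : Set K')
  let E1 := IntermediateField.adjoin k' ({t'} : Set K')
  have hfr : IsFractionRing (Algebra.adjoin k' ({t'} : Set K'))
    (IntermediateField.adjoin k' ({t'} : Set K')) := inferInstance
  have hfr' : IsFractionRing A1 E1 := hfr
  have hpid0 : IsPrincipalIdealRing A0 := K660.Ded.isPrincipalIdealRing_adjoin hgen.tr
  have hpid : IsPrincipalIdealRing A1 := K660.Ded.isPrincipalIdealRing_adjoin hgen'.tr
  have hfin : FiniteDimensional E1 K' := hgen'.fin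
  let σ : A0 →+* A1 := ((algebraMap K K').comp (algebraMap A0 K)).codRestrict A1.toSubring
    (fun a => hm1 _ a.2)
  let τ : E0 →+* E1 := ((algebraMap K K').comp (algebraMap E0 K)).codRestrict E1.toSubfield.toSubring
    (fun a => hm2 _ a.2)
  have hσ : (algebraMap A1 K').comp σ = (algebraMap K K').comp (algebraMap A0 K) :=
    RingHom.ext fun _ => rfl
  have hτ : (algebraMap E1 K').comp τ = (algebraMap K K').comp (algebraMap E0 K) :=
    RingHom.ext fun _ => rfl
  set θ' := algebraMap K K' θ with hθ'
  -- integrality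
  have hint1 : ∀ z : K, IsIntegral A0 z → IsIntegral A1 (algebraMap K K' z) := by
    rintro z ⟨p, hp, hpz⟩
    refine ⟨p.map σ, hp.map _, ?_⟩
    rw [eval₂_map, hσ, ← hom_eval₂, hpz, map_zero]
  have hint2 : IsIntegral A1 z := by
    -- `z` is integral over the integral closure of `A0`
    have h2 : IsIntegral (integralClosure A0 K) z :=
      (isIntegral_iff (integralClosure A0 K).toSubring (algebraMap K K') (fun r => rfl) z).2 hz
    have h3 : IsIntegral A0 z := isIntegral_trans (A := integralClosure A0 K) z h2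
    obtain ⟨p, hp, hpz⟩ := h3
    refine ⟨p.map σ, hp.map _, ?_⟩
    rw [eval₂_map, hσ]
    exact hpz
  have hθ1 : IsIntegral A1 θ' := hint1 θ hθ
  -- separability
  have hsep1 : IsSeparable E1 θ' := by
    have h2 : ((minpoly E0 θ).map τ).Separable := Polynomial.Separable.map (f := τ) hsep
    refine h2.of_dvd (minpoly.dvd E1 θ' ?_)
    rw [aeval_def, eval₂_map, hτ, ← hom_eval₂]
    have : eval₂ (algebraMap E0 K) θ (minpoly E0 θ) = 0 := minpoly.aeval E0 θ
    rw [this, map_zero]
  -- generation
  have htop : Algebra.adjoin E1 ({θ'} : Set K') = ⊤ := by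
    rw [eq_top_iff]
    rintro w -
    obtain ⟨v, rfl⟩ := h.2 w
    induction v with
    | zero => rw [map_zero]; exact zero_mem _
    | add a b ha hb => rw [map_add]; exact add_mem ha hb
    | tmul c x =>
      rw [K661.Scalar.mulMap_tmul]
      refine Subalgebra.mul_mem _ ?_ ?_
      · exact Subalgebra.algebraMap_mem (Algebra.adjoin E1 ({θ'} : Set K'))
          (algebraMap k' E1 c)
      · have hx : x ∈ Algebra.adjoin E0 ({θ} : Set K) := by rw [hθtop]; trivial
        induction hx using Algebra.adjoin_induction with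
        | mem x hx =>
          rw [Set.mem_singleton_iff] at hx
          rw [hx]
          exact Algebra.subset_adjoin rfl
        | algebraMap r =>
          exact Subalgebra.algebraMap_mem (Algebra.adjoin E1 ({θ'} : Set K')) (τ r)
        | add x y _ _ hx hy => rw [map_add]; exact add_mem hx hy
        | mul x y _ _ hx hy => rw [map_mul]; exact mul_mem hx hy
  have hsepK : Algebra.IsSeparable E1 K' := by
    have hi : IsIntegral E1 θ' := Algebra.IsIntegral.isIntegral θ'
    have h2 : IntermediateField.adjoin E1 ({θ'} : Set K') = ⊤ := by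
      apply IntermediateField.toSubalgebra_injective
      rw [IntermediateField.adjoin_simple_toSubalgebra_of_isAlgebraic hi.isAlgebraic, htop,
        IntermediateField.top_toSubalgebra]
    have h3 : Algebra.IsSeparable E1 (IntermediateField.adjoin E1 ({θ'} : Set K')) :=
      (IntermediateField.isSeparable_adjoin_simple_iff_isSeparable E1 K').2 hsep1
    rw [h2] at h3
    exact Algebra.IsSeparable.of_algHom E1 (⊤ : IntermediateField E1 K')
      (IntermediateField.topEquiv (F := E1) (E := K')).symm.toAlgHom
  -- conclusion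
  have hroot : aeval θ' ((minpoly A0 θ).map σ) = 0 := by
    rw [aeval_def, eval₂_map, hσ, ← hom_eval₂]
    have : eval₂ (algebraMap A0 K) θ (minpoly A0 θ) = 0 := minpoly.aeval A0 θ
    rw [this, map_zero]
  have key := deriv_mul_mem (A := A1) (E := E1) htop hθ1 ((minpoly A0 θ).map σ) hroot hint2
  have h6 : aeval θ' (derivative ((minpoly A0 θ).map σ)) =
      algebraMap K K' (aeval θ (derivative (minpoly A0 θ))) := by
    rw [derivative_map, aeval_def, eval₂_map, hσ, ← hom_eval₂]
    rfl
  rw [h6] at key
  have hle : (Algebra.adjoin A1 ({θ'} : Set K')).toSubring ≤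
      Subring.closure (algebraMap K K' '' {t, θ} ∪ Set.range (algebraMap k' K')) := by
    rw [Algebra.adjoin_eq_ring_closure, Subring.closure_le]
    rintro _ (⟨a, rfl⟩ | hx)
    · have ha : (a : K') ∈ (Algebra.adjoin k' ({t'} : Set K')).toSubring := a.2
      rw [Algebra.adjoin_eq_ring_closure] at ha
      refine Subring.closure_mono ?_ ha
      rintro _ (⟨c, rfl⟩ | hx)
      · exact Or.inr ⟨c, rfl⟩
      · rw [Set.mem_singleton_iff, ← ht'] at hx
        exact Or.inl ⟨t, Or.inl rfl, hx.symm⟩
    · rw [Set.mem_singleton_iff] at hx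
      exact Subring.subset_closure (Or.inl ⟨θ, Or.inr rfl, hx.symm⟩)
  exact hle key

/-- A uniform choice. -/
structure Data (k : Type*) (K : Type*) [Field k] [Field K] [Algebra k K] where
  t : K
  θ : K
  gen : IsGen k K t
  int : IsIntegral (Algebra.adjoin k {t}) θ
  top : Algebra.adjoin (IntermediateField.adjoin k {t}) ({θ} : Set K) = ⊤
  sep : IsSeparable (IntermediateField.adjoin k {t}) θ

/-- The element `f'(θ)`. -/
noncomputable def Data.δ (d : Data k K) : K :=
  aeval d.θ (derivative (minpoly (Algebra.adjoin k {d.t}) d.θ))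

omit [Field k'] [Field K'] [Algebra k k'] [Algebra K K'] [Algebra k' K'] [Algebra k K']
  [IsScalarTower k k' K'] [IsScalarTower k K K'] in
open scoped IntermediateField.algebraAdjoinAdjoin in
theorem Data.δ_ne_zero (d : Data k K) : d.δ ≠ 0 := by
  have hpid : IsPrincipalIdealRing (Algebra.adjoin k ({d.t} : Set K)) :=
    K660.Ded.isPrincipalIdealRing_adjoin d.gen.tr
  have h5 : aeval d.θ (derivative (minpoly (IntermediateField.adjoin k {d.t}) d.θ)) ≠ 0 :=
    Polynomial.Separable.aeval_derivative_ne_zero d.sep (minpoly.aeval _ _)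
  rw [minpoly.isIntegrallyClosed_eq_field_fractions' (IntermediateField.adjoin k {d.t}) d.int,
    derivative_map, aeval_map_algebraMap] at h5
  exact h5

omit [Field k'] [Field K'] [Algebra k k'] [Algebra K K'] [Algebra k' K'] [Algebra k K']
  [IsScalarTower k k' K'] [IsScalarTower k K K'] in
open scoped IntermediateField.algebraAdjoinAdjoin in
theorem exists_data (hK : IsFunctionField k K) (hg : IsGeometric k K) : Nonempty (Data k K) := by
  obtain ⟨t, ht, hsep⟩ := K660.Sep.exists_isSeparable hK hg
  have := ht.fin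
  obtain ⟨α, hα⟩ := Field.exists_primitive_element (IntermediateField.adjoin k {t}) K
  have halg : Algebra.IsAlgebraic (Algebra.adjoin k {t}) K :=
    Algebra.IsAlgebraic.trans (Algebra.adjoin k {t}) (IntermediateField.adjoin k {t}) K
  obtain ⟨y, hy0, hy⟩ := (Algebra.IsAlgebraic.isAlgebraic (R := Algebra.adjoin k {t}) α
    ).exists_integral_multiple
  have hy0' : (y : K) ≠ 0 := fun h0 => hy0 (Subtype.ext h0)
  have hyα : y • α = (y : K) * α := rfl
  refine ⟨⟨t, y • α, ht, hy, ?_, Algebra.IsSeparable.isSeparable _ _⟩⟩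
  have hi : IsIntegral (IntermediateField.adjoin k {t}) (y • α) := Algebra.IsIntegral.isIntegral _
  rw [← IntermediateField.adjoin_simple_toSubalgebra_of_isAlgebraic hi.isAlgebraic,
    ← IntermediateField.top_toSubalgebra]
  congr 1
  rw [eq_top_iff, ← hα, IntermediateField.adjoin_simple_le_iff]
  have h1 : α = (y : K)⁻¹ * (y • α) := by rw [hyα, inv_mul_cancel_left₀ hy0']
  have hyE : (y : K) ∈ IntermediateField.adjoin k {t} :=
    IntermediateField.algebra_adjoin_le_adjoin k {t} y.2
  have h2 : (y : K)⁻¹ * (y • α) ∈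
      IntermediateField.adjoin (IntermediateField.adjoin k {t}) ({y • α} : Set K) :=
    mul_mem (inv_mem (IntermediateField.algebraMap_mem _
      (⟨y, hyE⟩ : IntermediateField.adjoin k {t})))
      (IntermediateField.mem_adjoin_simple_self _ _)
  rwa [← h1] at h2

omit [Field k'] [Field K'] [Algebra k k'] [Algebra K K'] [Algebra k' K'] [Algebra k K']
  [IsScalarTower k k' K'] [IsScalarTower k K K'] in
theorem Data.finite_bad (d : Data k K) : {P : Place k K | ¬ (P.1 d.t ≤ 1 ∧ P.1 d.δ = 1)}.Finite := by
  refine ((d.gen.finite_pole d.t).union ((d.gen.finite_pole d.δ).union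
    (d.gen.finite_pole d.δ⁻¹))).subset ?_
  intro P hP
  by_contra hcon
  simp only [Set.mem_union, Set.mem_ofPred_eq, not_or, not_not] at hcon
  obtain ⟨h1, h2, h3⟩ := hcon
  refine hP ⟨h1, le_antisymm h2 ?_⟩
  rw [map_inv₀] at h3
  have h0 : P.1 d.δ ≠ 0 := (Valuation.ne_zero_iff _).2 d.δ_ne_zero
  exact (inv_le_one₀ (zero_lt_iff.2 h0)).1 h3

theorem Data.mem_closure (d : Data k K) (h : Function.Bijective (K661.Scalar.mulMap k k' K K'))
    (P : Place k K) (ht : P.1 d.t ≤ 1) (hδ : P.1 d.δ = 1) {z : K'}
    (hz : IntOver P.O.toSubring (algebraMap K K') z) :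
    z ∈ Subring.closure (algebraMap K K' '' P.O.toSubring ∪ Set.range (algebraMap k' K')) := by
  let M : Submonoid K :=
    { carrier := {s | P.1 s = 1 ∧ IsIntegral (Algebra.adjoin k {d.t}) s}
      mul_mem' := by
        rintro a b ⟨ha, ha'⟩ ⟨hb, hb'⟩
        exact ⟨by rw [map_mul, ha, hb, one_mul], ha'.mul hb'⟩
      one_mem' := ⟨map_one _, isIntegral_one⟩ }
  obtain ⟨s, ⟨hs, -⟩, hsz⟩ := hz.exists_mul
    (A := (integralClosure (Algebra.adjoin k {d.t}) K).toSubring) M (fun s hs => hs.2)
    (fun a ha => by
      obtain ⟨s, hs, hs1, hs2⟩ := exists_mul_isIntegral d.gen P ht a ha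
      exact ⟨s, ⟨hs, hs1⟩, hs2⟩)
  have h1 := deriv_mul_mem_ff h rfl d.gen d.int d.top d.sep hsz
  change algebraMap K K' d.δ * (algebraMap K K' s * z) ∈ _ at h1
  have hθ : P.1 d.θ ≤ 1 :=
    val_le_one_of_isIntegral P (fun r => val_adjoin_le P ht r) d.int
  have hle : Subring.closure (algebraMap K K' '' {d.t, d.θ} ∪ Set.range (algebraMap k' K')) ≤
      Subring.closure (algebraMap K K' '' P.O.toSubring ∪ Set.range (algebraMap k' K')) := by
    refine Subring.closure_mono (Set.union_subset_union_left _ (Set.image_mono ?_))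
    rintro x (rfl | hx)
    · exact ht
    · rw [Set.mem_singleton_iff] at hx
      rw [hx]; exact hθ
  have hs0 : s ≠ 0 := by
    rintro rfl
    rw [map_zero] at hs
    exact zero_ne_one hs
  have h2 : z = algebraMap K K' (d.δ * s)⁻¹ * (algebraMap K K' d.δ * (algebraMap K K' s * z)) := by
    rw [← mul_assoc (algebraMap K K' d.δ), ← map_mul, ← mul_assoc, ← map_mul,
      inv_mul_cancel₀ (mul_ne_zero d.δ_ne_zero hs0), map_one, one_mul]
  rw [h2]
  refine Subring.mul_mem _ (Subring.subset_closure (Or.inl ⟨_, ?_, rfl⟩)) (hle h1)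
  change P.1 _ ≤ 1
  rw [map_inv₀, map_mul, hs, hδ, mul_one, inv_one]

end FF

end K666.DualAdj
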