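import Groth.Agent.FunFld.K666.SemiLoc
import Groth.Agent.FunFld.K666.SameIm
import Groth.Agent.FunFld.K665.FiniteIC
import Groth.Agent.FunFld.K664.Plane
import Mathlib.RingTheory.Localization.AtPrime.Basic

/-! Intersection multiplicity of a plane curve with `V(g)` as the dimension of `A/(f,g)`. -/

set_option autoImplicit false

namespace K666.IntMult

open FunFld WithZero K666.Rel K666.SemiLoc K665.LocRing

variable {k K : Type*} [Field k] [Field K] [Algebra k K]

/-- places with the same image under `(1 : x : y)` as a finite place over `c` -/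
theorem sameImage_iff {x y : K} {P : Place k K} {c : Fin 2 → k}
    (hc : ∀ i, P.1 (![x, y] i - algebraMap k K (c i)) < 1) (Q : Place k K) :
    SameImage ![(1 : K), x, y] P Q ↔ ∀ i, Q.1 (![x, y] i - algebraMap k K (c i)) < 1 := by
  have hle : ∀ (R : Place k K) (a : K) (e : k), R.1 (a - algebraMap k K e) < 1 → R.1 a ≤ 1 := by
    intro R a e h
    have : a = (a - algebraMap k K e) + algebraMap k K e := by ring
    rw [this]
    exact (R.1.map_add _ _).trans (max_le h.le (R.2.1 e))
  -- constants are unique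
  have huniq : ∀ (R : Place k K) (e : k), R.1 (algebraMap k K e) < 1 → e = 0 := by
    intro R e h
    by_contra he
    rw [K666.Basic.Place_algebraMap R e he] at h
    exact lt_irrefl _ h
  constructor
  · rintro ⟨j, hj0, hPj, hQj, hr⟩
    set φ : Fin 3 → K := ![(1 : K), x, y] with hφ
    have hP1 : P.1 (φ j) = 1 := by
      apply le_antisymm
      · fin_cases j
        · exact (map_one P.1).le
        · exact hle P _ _ (hc 0)
        · exact hle P _ _ (hc 1)
      · have := hPj 0
        simpa [hφ] using this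
    obtain ⟨e, he1, he2⟩ := hr 0
    have h0 : φ 0 / φ j = (φ j)⁻¹ := by simp [hφ]
    rw [h0] at he1 he2
    have he : e ≠ 0 := by
      rintro rfl
      rw [map_zero, sub_zero, map_inv₀, hP1, inv_one] at he1
      exact lt_irrefl _ he1
    have hQ1 : Q.1 (φ j) = 1 := by
      have h1 : Q.1 ((φ j)⁻¹) = 1 := by
        have h2 : (φ j)⁻¹ = ((φ j)⁻¹ - algebraMap k K e) + algebraMap k K e := by ring
        rw [h2, K664.val_add_eq_of_lt, K666.Basic.Place_algebraMap Q e he]
        rw [K666.Basic.Place_algebraMap Q e he]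
        exact he2
      rwa [map_inv₀, inv_eq_one] at h1
    intro i
    obtain ⟨c', hc1, hc2⟩ := hr i.succ
    have hi : φ i.succ = ![x, y] i := by fin_cases i <;> rfl
    -- the identity
    have key : ∀ R : Place k K, R.1 (φ j) = 1 → R.1 ((φ j)⁻¹ - algebraMap k K e) < 1 →
        R.1 (φ i.succ / φ j - algebraMap k K c') < 1 →
        (R.1 (![x, y] i - algebraMap k K (c i)) < 1 ↔ R.1 (algebraMap k K (c' - c i * e)) < 1) := by
      intro R hR hR1 hR2
      have e1 : ![x, y] i - algebraMap k K (c i) =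
          ((φ i.succ / φ j - algebraMap k K c') -
            algebraMap k K (c i) * ((φ j)⁻¹ - algebraMap k K e) +
            algebraMap k K (c' - c i * e)) * φ j := by
        rw [← hi, map_sub, map_mul]
        field_simp
        ring
      have h3 : R.1 ((φ i.succ / φ j - algebraMap k K c') -
            algebraMap k K (c i) * ((φ j)⁻¹ - algebraMap k K e)) < 1 := by
        apply R.1.map_sub_lt hR2
        rw [map_mul]
        exact mul_lt_one_of_nonneg_of_lt_one_right (R.2.1 _) zero_le hR1
      rw [e1, map_mul, hR, mul_one]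
      constructor
      · intro h
        have h4 := R.1.map_sub_lt h h3
        rwa [add_sub_cancel_left] at h4
      · intro h
        exact R.1.map_add_lt h3 h
    rw [key Q hQ1 he2 hc2]
    have h5 := (key P hP1 he1 hc1).1 (hc i)
    rw [huniq P _ h5, map_zero, map_zero]
    exact zero_lt_one
  · intro h
    have hP : ∀ i, P.1 (![(1 : K), x, y] i) ≤ 1 := by
      intro i
      fin_cases i
      · exact (map_one P.1).le
      · exact hle P _ _ (hc 0)
      · exact hle P _ _ (hc 1)
    have hQ : ∀ i, Q.1 (![(1 : K), x, y] i) ≤ 1 := by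
      intro i
      fin_cases i
      · exact (map_one Q.1).le
      · exact hle Q _ _ (h 0)
      · exact hle Q _ _ (h 1)
    refine ⟨0, by simp, fun i => ?_, fun i => ?_, fun i => ?_⟩
    · have := hP i
      simpa using this
    · have := hQ i
      simpa using this
    · fin_cases i
      · exact ⟨1, by simp, by simp⟩
      · exact ⟨c 0, by simpa using hc 0, by simpa using h 0⟩
      · exact ⟨c 1, by simpa using hc 1, by simpa using h 1⟩

/-- the fibre is finite -/
theorem finite_fibre (hK : IsFunctionField k K) {x y : K}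
    (hxy : IntermediateField.adjoin k ({x, y} : Set K) = ⊤) (c : Fin 2 → k) :
    {Q : Place k K | ∀ i, Q.1 (![x, y] i - algebraMap k K (c i)) < 1}.Finite := by
  obtain ⟨i, hi⟩ : ∃ i, ![x, y] i - algebraMap k K (c i) ≠ 0 := by
    by_contra hcon
    push Not at hcon
    obtain ⟨⟨t, ht, -⟩, -⟩ := hK
    have h1 : IntermediateField.adjoin k ({x, y} : Set K) = ⊥ := by
      rw [IntermediateField.adjoin_eq_bot_iff]
      rintro z (rfl | hz)
      · exact IntermediateField.mem_bot.2 ⟨c 0, (sub_eq_zero.1 (hcon 0)).symm⟩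
      · rw [Set.mem_singleton_iff] at hz
        rw [hz]
        exact IntermediateField.mem_bot.2 ⟨c 1, (sub_eq_zero.1 (hcon 1)).symm⟩
    rw [hxy] at h1
    have h2 : t ∈ (⊥ : IntermediateField k K) := by rw [← h1]; trivial
    rw [IntermediateField.mem_bot] at h2
    obtain ⟨a, rfl⟩ := h2
    exact ht (isAlgebraic_algebraMap a)
  refine (K660.Places.finite_pole hK (![x, y] i - algebraMap k K (c i))⁻¹).subset ?_
  intro Q hQ
  have h1 := hQ i
  change ¬ Q.1 _ ≤ 1
  rw [map_inv₀, not_le]
  exact (one_lt_inv₀ (zero_lt_iff.2 ((Valuation.ne_zero_iff _).2 hi))).2 h1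

section main

variable {x y : K} {P : Place k K} {c : Fin 2 → k}

/-- polynomials are congruent to their values -/
theorem aeval_congr (Q : Place k K) (hc : ∀ i, Q.1 (![x, y] i - algebraMap k K (c i)) < 1)
    (p : MvPolynomial (Fin 2) k) :
    Q.1 (MvPolynomial.aeval ![x, y] p - algebraMap k K (MvPolynomial.eval c p)) < 1 := by
  have hle : ∀ (a : K) (e : k), Q.1 (a - algebraMap k K e) < 1 → Q.1 a ≤ 1 := by
    intro a e h
    have : a = (a - algebraMap k K e) + algebraMap k K e := by ring
    rw [this]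
    exact (Q.1.map_add _ _).trans (max_le h.le (Q.2.1 e))
  induction p using MvPolynomial.induction_on with
  | C a => simp
  | add p q hp hq =>
    rw [map_add, map_add, map_add, add_sub_add_comm]
    exact Q.1.map_add_lt hp hq
  | mul_X p i hp =>
    have e1 : MvPolynomial.aeval ![x, y] (p * MvPolynomial.X i) -
        algebraMap k K (MvPolynomial.eval c (p * MvPolynomial.X i)) =
        (MvPolynomial.aeval ![x, y] p - algebraMap k K (MvPolynomial.eval c p)) * ![x, y] i +
        algebraMap k K (MvPolynomial.eval c p) * (![x, y] i - algebraMap k K (c i)) := by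
      rw [map_mul, MvPolynomial.aeval_X, map_mul, MvPolynomial.eval_X, map_mul]
      ring
    rw [e1]
    apply Q.1.map_add_lt
    · rw [map_mul]
      exact mul_lt_one_of_nonneg_of_lt_one_left zero_le hp (hle _ _ (hc i))
    · rw [map_mul]
      exact mul_lt_one_of_nonneg_of_lt_one_right (Q.2.1 _) zero_le (hc i)

theorem val_aeval_eq_one_iff (Q : Place k K)
    (hc : ∀ i, Q.1 (![x, y] i - algebraMap k K (c i)) < 1)
    (p : MvPolynomial (Fin 2) k) :
    Q.1 (MvPolynomial.aeval ![x, y] p) = 1 ↔ MvPolynomial.eval c p ≠ 0 := by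
  have h1 := aeval_congr Q hc p
  constructor
  · intro h h0
    rw [h0, map_zero, sub_zero, h] at h1
    exact lt_irrefl _ h1
  · intro h
    have h2 : MvPolynomial.aeval ![x, y] p =
        (MvPolynomial.aeval ![x, y] p - algebraMap k K (MvPolynomial.eval c p)) +
          algebraMap k K (MvPolynomial.eval c p) := by ring
    rw [h2, K664.val_add_eq_of_lt, K666.Basic.Place_algebraMap Q _ h]
    rwa [K666.Basic.Place_algebraMap Q _ h]

/-- membership in the maximal ideal -/
theorem mem_max_iff (M : Ideal (MvPolynomial (Fin 2) k))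
    (hM : M = Ideal.span {MvPolynomial.X 0 - MvPolynomial.C (c 0),
      MvPolynomial.X 1 - MvPolynomial.C (c 1)}) [hmax : M.IsMaximal]
    (p : MvPolynomial (Fin 2) k) : p ∈ M ↔ MvPolynomial.eval c p = 0 := by
  have hker : M ≤ RingHom.ker (MvPolynomial.eval c) := by
    rw [hM, Ideal.span_le]
    rintro _ (rfl | h)
    · simp
    · rw [Set.mem_singleton_iff] at h
      rw [h]
      simp
  have h2 : M = RingHom.ker (MvPolynomial.eval c) :=
    hmax.eq_of_le (RingHom.ker_ne_top _) hker
  rw [h2, RingHom.mem_ker]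

/-- the coordinate ring -/
abbrev R (k : Type*) {K : Type*} [Field k] [Field K] [Algebra k K] (x y : K) : Subalgebra k K :=
  Algebra.adjoin k (Set.range ![x, y])

theorem mem_R {z : K} : z ∈ R k x y ↔ ∃ p : MvPolynomial (Fin 2) k, MvPolynomial.aeval ![x, y] p = z := by
  rw [R, Algebra.adjoin_range_eq_range_aeval]
  rfl

section Psi

variable (hc : ∀ i, P.1 (![x, y] i - algebraMap k K (c i)) < 1)
  (M : Ideal (MvPolynomial (Fin 2) k)) [hmax : M.IsMaximal]
  (hM : M = Ideal.span {MvPolynomial.X 0 - MvPolynomial.C (c 0),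
      MvPolynomial.X 1 - MvPolynomial.C (c 1)})

include hc hM in
theorem isUnit_aeval (s : M.primeCompl) :
    IsUnit ((MvPolynomial.aeval ![x, y] : MvPolynomial (Fin 2) k →ₐ[k] K) s) := by
  have h1 : MvPolynomial.eval c (s : MvPolynomial (Fin 2) k) ≠ 0 := by
    intro h
    exact s.2 ((mem_max_iff M hM _).2 h)
  have h2 := (val_aeval_eq_one_iff P hc _).2 h1
  exact (ne_zero_of_val_one P h2).isUnit

/-- The map from the local ring of the plane to `K`. -/
noncomputable def Psi : Localization.AtPrime M →ₐ[k] K :=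
  IsLocalization.liftAlgHom (M := M.primeCompl)
    (f := (MvPolynomial.aeval ![x, y] : MvPolynomial (Fin 2) k →ₐ[k] K))
    (isUnit_aeval hc M hM)

theorem Psi_algebraMap (p : MvPolynomial (Fin 2) k) :
    Psi hc M hM (algebraMap _ _ p) = MvPolynomial.aeval ![x, y] p := by
  rw [Psi, IsLocalization.coe_liftAlgHom]
  exact IsLocalization.lift_eq _ _

theorem exists_mul_eq (a : Localization.AtPrime M) :
    ∃ (p s : MvPolynomial (Fin 2) k), s ∉ M ∧ a * algebraMap _ _ s = algebraMap _ _ p := by
  obtain ⟨⟨p, s⟩, h⟩ := IsLocalization.surj M.primeCompl a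
  exact ⟨p, s, s.2, h⟩

include hc hM in
theorem val_aeval_of_notMem {s : MvPolynomial (Fin 2) k} (hs : s ∉ M) :
    P.1 (MvPolynomial.aeval ![x, y] s) = 1 := by
  rw [val_aeval_eq_one_iff P hc]
  intro h
  exact hs ((mem_max_iff M hM _).2 h)

theorem mem_range_Psi (z : K) : z ∈ loc (R k x y) P ↔ ∃ a, Psi hc M hM a = z := by
  constructor
  · rintro ⟨u, hu, w, hw, hw1, h⟩
    obtain ⟨p, rfl⟩ := mem_R.1 hu
    obtain ⟨s, rfl⟩ := mem_R.1 hw
    have hs : s ∉ M := by
      intro hs
      rw [mem_max_iff M hM] at hs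
      exact (val_aeval_eq_one_iff P hc s).1 hw1 hs
    refine ⟨IsLocalization.mk' _ p (⟨s, hs⟩ : M.primeCompl), ?_⟩
    have h1 : Psi hc M hM (IsLocalization.mk' _ p (⟨s, hs⟩ : M.primeCompl)) *
        MvPolynomial.aeval ![x, y] s = MvPolynomial.aeval ![x, y] p := by
      rw [← Psi_algebraMap hc M hM, ← Psi_algebraMap hc M hM, ← map_mul]
      congr 1
      exact IsLocalization.mk'_spec (Localization.AtPrime M) p (⟨s, hs⟩ : M.primeCompl)
    rw [← h] at h1
    exact mul_right_cancel₀ (ne_zero_of_val_one P hw1) h1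
  · rintro ⟨a, rfl⟩
    obtain ⟨p, s, hs, h⟩ := exists_mul_eq M a
    refine ⟨MvPolynomial.aeval ![x, y] p, mem_R.2 ⟨p, rfl⟩, MvPolynomial.aeval ![x, y] s,
      mem_R.2 ⟨s, rfl⟩, val_aeval_of_notMem hc M hM hs, ?_⟩
    rw [← Psi_algebraMap hc M hM, ← map_mul, h, Psi_algebraMap]

theorem Psi_eq_zero_iff [IsAlgClosed k] (hK : IsFunctionField k K)
    (hxy : IntermediateField.adjoin k ({x, y} : Set K) = ⊤) {f : MvPolynomial (Fin 2) k}
    (hf : Irreducible f) (hfxy : MvPolynomial.aeval ![x, y] f = 0) (a : Localization.AtPrime M) :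
    Psi hc M hM a = 0 ↔ algebraMap _ (Localization.AtPrime M) f ∣ a := by
  constructor
  · intro h
    obtain ⟨p, s, hs, h1⟩ := exists_mul_eq M a
    have h2 : MvPolynomial.aeval ![x, y] p = 0 := by
      rw [← Psi_algebraMap hc M hM, ← h1, map_mul, h, zero_mul]
    obtain ⟨q, rfl⟩ := K664.dvd_of_aeval_eq_zero hK hxy hf hfxy h2
    have hu : IsUnit (algebraMap _ (Localization.AtPrime M) s) :=
      IsLocalization.map_units (Localization.AtPrime M) (⟨s, hs⟩ : M.primeCompl)
    rw [← hu.dvd_mul_right, h1, map_mul]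
    exact dvd_mul_right _ _
  · rintro ⟨b, rfl⟩
    rw [map_mul, Psi_algebraMap, hfxy, zero_mul]

include hc hM in
/-- The linear map `A → O / g O`. -/
theorem finrank_quotient [IsAlgClosed k] (hK : IsFunctionField k K)
    (hxy : IntermediateField.adjoin k ({x, y} : Set K) = ⊤) {f g : MvPolynomial (Fin 2) k}
    (hf : Irreducible f) (hfxy : MvPolynomial.aeval ![x, y] f = 0)
    (hg : MvPolynomial.aeval ![x, y] g ≠ 0) :
    Module.finrank k (Localization.AtPrime M ⧸
        Ideal.map (algebraMap (MvPolynomial (Fin 2) k) (Localization.AtPrime M))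
          (Ideal.span {f, g})) =
    rel (Subalgebra.toSubmodule (loc (R k x y) P)) ((Subalgebra.toSubmodule (loc (R k x y) P)).map
      (mulE (k := k) (MvPolynomial.aeval ![x, y] g) hg).toLinearMap) := by
  set O := Subalgebra.toSubmodule (loc (R k x y) P) with hO
  set N := O.map (mulE (k := k) (MvPolynomial.aeval ![x, y] g) hg).toLinearMap with hN
  let ψ : Localization.AtPrime M →ₗ[k] O :=
    (Psi hc M hM).toLinearMap.codRestrict O (fun a => (mem_range_Psi hc M hM _).2 ⟨a, rfl⟩)
  have hψ : ∀ a, (ψ a : K) = Psi hc M hM a := fun _ => rfl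
  have hψs : Function.Surjective ψ := by
    rintro ⟨z, hz⟩
    obtain ⟨a, rfl⟩ := (mem_range_Psi hc M hM z).1 hz
    exact ⟨a, rfl⟩
  let Λ : Localization.AtPrime M →ₗ[k] (O ⧸ N.submoduleOf O) := (Submodule.mkQ _).comp ψ
  have hΛs : Function.Surjective Λ := (Submodule.mkQ_surjective _).comp hψs
  set I := Ideal.map (algebraMap (MvPolynomial (Fin 2) k) (Localization.AtPrime M))
          (Ideal.span {f, g}) with hI
  have hI' : I = Ideal.span {algebraMap _ (Localization.AtPrime M) f,
      algebraMap _ (Localization.AtPrime M) g} := by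
    rw [hI, Ideal.map_span, Set.image_pair]
  have hker : LinearMap.ker Λ = I.restrictScalars k := by
    ext a
    rw [Submodule.restrictScalars_mem, hI', Ideal.mem_span_pair]
    have h1 : a ∈ LinearMap.ker Λ ↔ Psi hc M hM a ∈ N := by
      rw [LinearMap.mem_ker]
      exact Submodule.Quotient.mk_eq_zero _
    rw [h1]
    constructor
    · rintro ⟨o, ho, hoa⟩
      obtain ⟨b, rfl⟩ := (mem_range_Psi hc M hM o).1 ho
      have h2 : Psi hc M hM (a - algebraMap _ _ g * b) = 0 := by
        rw [map_sub, map_mul, Psi_algebraMap, sub_eq_zero]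
        exact hoa.symm
      obtain ⟨e, he⟩ := (Psi_eq_zero_iff hc M hM hK hxy hf hfxy _).1 h2
      exact ⟨e, b, by rw [mul_comm e, ← he]; ring⟩
    · rintro ⟨e, b, rfl⟩
      refine ⟨Psi hc M hM b, (mem_range_Psi hc M hM _).2 ⟨b, rfl⟩, ?_⟩
      change MvPolynomial.aeval ![x, y] g * Psi hc M hM b = _
      rw [map_add, map_mul, map_mul, Psi_algebraMap, Psi_algebraMap, hfxy]
      ring
  have e1 : (Localization.AtPrime M ⧸ I.restrictScalars k) ≃ₗ[k] (O ⧸ N.submoduleOf O) :=
    (Submodule.quotEquivOfEq _ _ hker.symm).trans (Λ.quotKerEquivOfSurjective hΛs)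
  have e2 : (Localization.AtPrime M ⧸ I.restrictScalars k) ≃ₗ[k] (Localization.AtPrime M ⧸ I) :=
    Submodule.Quotient.restrictScalarsEquiv k I
  exact (e2.symm.trans e1).finrank_eq

end Psi

/-- The intersection multiplicity. -/
theorem main [IsAlgClosed k] (hK : IsFunctionField k K)
    (hxy : IntermediateField.adjoin k ({x, y} : Set K) = ⊤) {f g : MvPolynomial (Fin 2) k}
    (hf : Irreducible f) (hfxy : MvPolynomial.aeval ![x, y] f = 0)
    (hg : MvPolynomial.aeval ![x, y] g ≠ 0)
    (hc : ∀ i, P.1 (![x, y] i - algebraMap k K (c i)) < 1)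
    (M : Ideal (MvPolynomial (Fin 2) k)) [M.IsMaximal]
    (hM : M = Ideal.span {MvPolynomial.X 0 - MvPolynomial.C (c 0),
      MvPolynomial.X 1 - MvPolynomial.C (c 1)}) :
    ∑ᶠ Q ∈ {Q : Place k K | SameImage ![(1 : K), x, y] P Q},
        Q.ord (MvPolynomial.aeval ![x, y] g) =
      (Module.finrank k (Localization.AtPrime M ⧸
        Ideal.map (algebraMap (MvPolynomial (Fin 2) k) (Localization.AtPrime M))
          (Ideal.span {f, g})) : ℤ) := by
  classical
  have hset : {Q : Place k K | SameImage ![(1 : K), x, y] P Q} =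
      {Q : Place k K | ∀ i, Q.1 (![x, y] i - algebraMap k K (c i)) < 1} := by
    ext Q
    exact sameImage_iff hc Q
  have hfin := finite_fibre hK hxy c
  rw [hset, finsum_mem_eq_finite_toFinset_sum _ hfin, finrank_quotient hc M hM hK hxy hf hfxy hg]
  -- the conductor
  have hfg : (R k x y).FG := by
    refine ⟨Finset.univ.image ![x, y], ?_⟩
    rw [Finset.coe_image, Finset.coe_univ, Set.image_univ]
  have hfrac : ∀ z : K, ∃ a ∈ R k x y, ∃ b ∈ R k x y, z = a / b := by
    intro z
    have hz : z ∈ IntermediateField.adjoin k ({x, y} : Set K) := by rw [hxy]; trivial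
    rw [IntermediateField.mem_adjoin_iff_div] at hz
    obtain ⟨a, ha, b, hb, rfl⟩ := hz
    have hr : Set.range ![x, y] = ({x, y} : Set K) := by
      simp [Set.pair_comm]
    rw [← hr] at ha hb
    exact ⟨a, ha, b, hb, rfl⟩
  obtain ⟨d, hdR, hd0, hd⟩ := K665.FiniteIC.exists_conductor hK (R k x y) hfg hfrac
  refine (rel_order hK hfin.toFinset (loc (R k x y) P) ?_ d hd0 ?_ _ hg ?_).symm
  · -- the local ring is contained in the places of the fibre
    rintro z ⟨u, hu, w, hw, hw1, h⟩ Q hQ
    have hQc : ∀ i, Q.1 (![x, y] i - algebraMap k K (c i)) < 1 := by simpa using hQ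
    obtain ⟨p, rfl⟩ := mem_R.1 hu
    obtain ⟨s, rfl⟩ := mem_R.1 hw
    have h1 : Q.1 (MvPolynomial.aeval ![x, y] s) = 1 :=
      (val_aeval_eq_one_iff Q hQc s).2 ((val_aeval_eq_one_iff P hc s).1 hw1)
    have h2 : Q.1 z = Q.1 (MvPolynomial.aeval ![x, y] p) := by rw [← h, map_mul, h1, mul_one]
    rw [h2]
    have h3 := aeval_congr Q hQc p
    have h4 : MvPolynomial.aeval ![x, y] p =
        (MvPolynomial.aeval ![x, y] p - algebraMap k K (MvPolynomial.eval c p)) +
          algebraMap k K (MvPolynomial.eval c p) := by ring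
    rw [h4]
    exact (Q.1.map_add _ _).trans (max_le h3.le (Q.2.1 _))
  · intro z hz
    refine hd P z (fun Q hQ => hz Q ?_)
    rw [Set.Finite.mem_toFinset]
    intro i
    -- the value at `Q`
    have h1 : Q.1 (![x, y] i) ≤ 1 := hQ _ (le_loc _ _ (Algebra.subset_adjoin ⟨i, rfl⟩))
    obtain ⟨e, he⟩ := K666.Basic.exists_const hK Q _ h1
    by_cases hec : e = c i
    · rw [← hec]; exact he
    · exfalso
      have h2 : P.1 (![x, y] i - algebraMap k K e) = 1 := by
        have e1 : ![x, y] i - algebraMap k K e = (![x, y] i - algebraMap k K (c i)) +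
            algebraMap k K (c i - e) := by rw [map_sub]; ring
        have h3 := K666.Basic.Place_algebraMap P (c i - e) (sub_ne_zero.2 (Ne.symm hec))
        rw [e1, K664.val_add_eq_of_lt, h3]
        rw [h3]
        exact hc i
      have h4 : (![x, y] i - algebraMap k K e)⁻¹ ∈ loc (R k x y) P := by
        refine inv_mem_loc (le_loc _ _ ?_) h2
        exact Subalgebra.sub_mem _ (Algebra.subset_adjoin ⟨i, rfl⟩) (Subalgebra.algebraMap_mem _ _)
      have h5 := hQ _ h4
      rw [map_inv₀] at h5
      have h6 : Q.1 (![x, y] i - algebraMap k K e) ≠ 0 := by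
        rw [Valuation.ne_zero_iff]
        exact ne_zero_of_val_one P h2
      exact absurd ((inv_le_one₀ (zero_lt_iff.2 h6)).1 h5) (not_le.2 he)
  · exact le_loc _ _ (mem_R.2 ⟨g, rfl⟩)

end main

end K666.IntMult
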