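import Groth.Agent.FunFld.K662.Norm
import Groth.Agent.FunFld.K666.Ext
import Groth.Agent.FunFld.K661.OverFF
import Groth.Agent.FunFld.K664.Basic
import Mathlib.RingTheory.Norm.Transitivity
import Mathlib.FieldTheory.Minpoly.IsIntegrallyClosed

/-! The minimal polynomial of an element which is a uniformizer at one place above `P` and a unit at
the others. -/

set_option autoImplicit false

namespace K666.MinpUnif

open FunFld WithZero K661.Place K661.Over IsDedekindDomain

variable {k K K' : Type*} [Field k] [Field K] [Field K'] [Algebra k K] [Algebra K K'] [Algebra k K']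
  [IsScalarTower k K K'] [FiniteDimensional K K']

/-- norm formula -/
theorem norm_formula (hK : FunFld.IsFunctionField k K) (_hg : FunFld.IsGeometric k K)
    (P : FunFld.Place k K) (x : K')
    (Qs : Finset (FunFld.Place k K')) (hQs : ∀ Q, Q ∈ Qs ↔ FunFld.IsOver Q P) :
    (P.deg : ℤ) * P.ord (Algebra.norm K x) = ∑ Q ∈ Qs, (Q.deg : ℤ) * Q.ord x :=
  K662.Norm.ord_norm (K660.Places.exists_isGen hK) P x Qs hQs

/-- An element integral at all places above `P` is integral over the valuation ring. -/
theorem isIntegral_of_forall (hK : FunFld.IsFunctionField k K) (P : Place k K)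
    [Algebra P.O K'] [IsScalarTower P.O K K'] (s : K')
    (hs : ∀ Q : Place k K', IsOver Q P → Q.1 s ≤ 1) : IsIntegral P.O s := by
  have hf := K661.OverFF.finite_O (K' := K') (K660.Places.exists_isGen hK) P
  have hd := isDedekind P hf
  have hfr := isFrac (K' := K') P
  obtain ⟨r, hr⟩ := HeightOneSpectrum.mem_integers_of_valuation_le_one
    (R := integralClosure P.O K') K' s (fun q => by
      have := hs (placeOf P q) (placeOf_isOver P q)
      rwa [placeOf_val] at this)
  rw [← hr]
  exact r.2

omit [Algebra k K'] [IsScalarTower k K K'] [FiniteDimensional K K'] in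
/-- The minimal polynomial of an integral element has integral coefficients. -/
theorem minpoly_coeff_le (P : Place k K) [Algebra P.O K'] [IsScalarTower P.O K K'] (s : K')
    (hs : IsIntegral P.O s) (i : ℕ) : P.1 ((minpoly K s).coeff i) ≤ 1 := by
  rw [minpoly.isIntegrallyClosed_eq_field_fractions' K hs, Polynomial.coeff_map]
  exact ((minpoly P.O s).coeff i).2

omit [Algebra k K'] [IsScalarTower k K K'] in
/-- the norm in terms of the constant coefficient of the minimal polynomial -/
theorem val_norm (P : Place k K) (s : K') :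
    P.1 (Algebra.norm K s) = P.1 ((minpoly K s).coeff 0) ^
      Module.finrank (IntermediateField.adjoin K ({s} : Set K')) K' := by
  have hs : IsIntegral K s := Algebra.IsIntegral.isIntegral s
  rw [Algebra.norm_eq_norm_adjoin K s, map_pow]
  congr 1
  have h1 := Algebra.PowerBasis.norm_gen_eq_coeff_zero_minpoly
    (IntermediateField.adjoin.powerBasis hs)
  rw [IntermediateField.adjoin.powerBasis_gen] at h1
  rw [h1, map_mul, map_pow, Valuation.map_neg, map_one, one_pow, one_mul,
    IntermediateField.minpoly_gen]

theorem main (hK : FunFld.IsFunctionField k K) (hg : FunFld.IsGeometric k K) (P : Place k K)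
    (Q : Place k K') (hQ : IsOver Q P) (hdeg : Q.deg = P.deg) (s : K')
    (hs : Q.1 s = exp (-1 : ℤ))
    (hs' : ∀ Q' : Place k K', IsOver Q' P → Q' ≠ Q → Q'.1 s = 1) :
    IntermediateField.adjoin K ({s} : Set K') = ⊤ ∧
      (∀ i, P.1 ((minpoly K s).coeff i) ≤ 1) ∧ P.1 ((minpoly K s).coeff 0) = exp (-1 : ℤ) := by
  classical
  have hfin := K666.Ext.finite_over (K' := K') hK P
  have hs0 : s ≠ 0 := by
    rintro rfl
    rw [map_zero] at hs
    exact exp_ne_zero hs.symm
  have hn := norm_formula hK hg P s hfin.toFinset (fun Q => by simp)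
  have hPd := K660.Compare.place_deg_pos hK P
  have hsum : ∑ R ∈ hfin.toFinset, (R.deg : ℤ) * R.ord s = P.deg := by
    rw [Finset.sum_eq_single Q]
    · rw [hdeg, Place.ord, hs, log_exp]; ring
    · intro R hR hne
      have := hs' R (by simpa using hR) hne
      rw [Place.ord, this, log_one]; ring
    · intro hn'; exact absurd (by simpa using hQ) hn'
  rw [hsum] at hn
  have hord : P.ord (Algebra.norm K s) = 1 := by
    have h0 : (P.deg : ℤ) ≠ 0 := by exact_mod_cast hPd.ne'
    have : (P.deg : ℤ) * P.ord (Algebra.norm K s) = (P.deg : ℤ) * 1 := by rw [hn, mul_one]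
    exact mul_left_cancel₀ h0 this
  -- the constant coefficient
  have hs1 : IsIntegral K s := Algebra.IsIntegral.isIntegral s
  have hc0 : (minpoly K s).coeff 0 ≠ 0 := minpoly.coeff_zero_ne_zero hs1 hs0
  have hv := val_norm P s
  have hord2 : (Module.finrank (IntermediateField.adjoin K ({s} : Set K')) K' : ℤ) *
      P.ord ((minpoly K s).coeff 0) = 1 := by
    have e1 : P.ord (Algebra.norm K s) = -WithZero.log (P.1 (Algebra.norm K s)) := rfl
    have e2 : P.ord ((minpoly K s).coeff 0) = -WithZero.log (P.1 ((minpoly K s).coeff 0)) := rfl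
    rw [← hord, e1, hv, log_pow, e2]
    simp
  have hm : Module.finrank (IntermediateField.adjoin K ({s} : Set K')) K' = 1 := by
    have : (Module.finrank (IntermediateField.adjoin K ({s} : Set K')) K' : ℤ) ∣ 1 :=
      Dvd.intro _ hord2
    have := Int.natAbs_dvd_natAbs.mpr this
    simpa using this
  have hord3 : P.ord ((minpoly K s).coeff 0) = 1 := by
    rw [hm] at hord2; simpa using hord2
  refine ⟨?_, ?_, ?_⟩
  · apply IntermediateField.eq_of_le_of_finrank_eq le_top
    have h3 := Module.finrank_mul_finrank K (IntermediateField.adjoin K ({s} : Set K')) K'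
    rw [hm, mul_one] at h3
    rw [h3, IntermediateField.finrank_top']
  · let _ := K661.OverFF.algO P K'
    have := K661.OverFF.towerO P K'
    intro i
    apply minpoly_coeff_le P s
    apply isIntegral_of_forall hK P s
    intro R hR
    by_cases hRQ : R = Q
    · rw [hRQ, hs, ← exp_zero, exp_le_exp]; omega
    · exact (hs' R hR hRQ).le
  · rw [K664.val_eq_exp P hc0, hord3]

end K666.MinpUnif
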