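import Groth.Agent.FunFld.K661.Scalar
import Groth.Agent.FunFld.K661.OverFF
import Groth.Agent.FunFld.K666.MinpUnif
import Mathlib.RingTheory.Polynomial.ScaleRoots
import Mathlib.LinearAlgebra.Basis.SMul

/-! Integrality over (the image of) a subring of `K`, and coordinates of elements of the subring
generated by constants. -/

set_option autoImplicit false

set_option linter.dupNamespace false

namespace K666.IntOver

open Polynomial FunFld

section Basic

variable {K L : Type*} [Field K] [CommRing L]

/-- `z` is integral over the image of the subring `R` of `K` under `f`. -/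
def IntOver (R : Subring K) (f : K →+* L) (z : L) : Prop :=
  ∃ p : K[X], p.Monic ∧ (∀ i, p.coeff i ∈ R) ∧ p.eval₂ f z = 0

theorem isIntegral_iff (R : Subring K) (f : K →+* L) [Algebra R L]
    (h : ∀ r : R, algebraMap R L r = f r) (z : L) : IsIntegral R z ↔ IntOver R f z := by
  have h' : algebraMap R L = f.comp R.subtype := RingHom.ext h
  constructor
  · rintro ⟨p, hp, hz⟩
    refine ⟨p.map R.subtype, hp.map _, fun i => ?_, ?_⟩
    · rw [coeff_map]; exact (p.coeff i).2
    · rw [eval₂_map, ← h', hz]
  · rintro ⟨p, hp, hc, hz⟩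
    have hs : (p.coeffs : Set K) ⊆ R := by
      intro x hx
      rw [Finset.mem_coe, mem_coeffs_iff] at hx
      obtain ⟨i, -, rfl⟩ := hx
      exact hc i
    refine ⟨p.toSubring R hs, (monic_toSubring p R hs).2 hp, ?_⟩
    rw [h', ← eval₂_map, map_toSubring, hz]

theorem isIntegral_map_iff [Nontrivial L] (R : Subring K) (f : K →+* L) (z : L) :
    IsIntegral (R.map f) z ↔ IntOver R f z := by
  constructor
  · rintro ⟨p, hp, hz⟩
    let e := R.equivMapOfInjective f f.injective
    refine ⟨(p.map e.symm.toRingHom).map R.subtype, (hp.map _).map _, fun i => ?_, ?_⟩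
    · rw [coeff_map]; exact ((p.map e.symm.toRingHom).coeff i).2
    · rw [eval₂_map, eval₂_map]
      have : (f.comp R.subtype).comp e.symm.toRingHom = algebraMap (R.map f) L := by
        apply RingHom.ext
        intro x
        obtain ⟨y, rfl⟩ := e.surjective x
        change f (e.symm (e y)) = _
        rw [RingEquiv.symm_apply_apply]
        rfl
      rw [this, hz]
  · rintro ⟨p, hp, hc, hz⟩
    have hs : ((p.map f).coeffs : Set L) ⊆ R.map f := by
      intro x hx
      rw [Finset.mem_coe, mem_coeffs_iff] at hx
      obtain ⟨i, -, rfl⟩ := hx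
      rw [coeff_map]
      exact ⟨_, hc i, rfl⟩
    refine ⟨(p.map f).toSubring (R.map f) hs, (monic_toSubring _ _ hs).2 (hp.map f), ?_⟩
    have : algebraMap (R.map f) L = (RingHom.id L).comp (R.map f).subtype := RingHom.ext fun _ => rfl
    rw [this, ← eval₂_map, map_toSubring, eval₂_map, RingHom.id_comp, hz]

theorem IntOver.mono {R S : Subring K} {f : K →+* L} {z : L} (hRS : R ≤ S) (h : IntOver R f z) :
    IntOver S f z := by
  obtain ⟨p, hp, hc, hz⟩ := h
  exact ⟨p, hp, fun i => hRS (hc i), hz⟩

/-- membership in the adjoined ring -/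
theorem mem_adjoin_map_iff (R : Subring K) (f : K →+* L) (s : Set L) (z : L) :
    z ∈ Algebra.adjoin (R.map f) s ↔ z ∈ Subring.closure (f '' R ∪ s) := by
  have h := Algebra.adjoin_eq_ring_closure (R := R.map f) s
  have h2 : z ∈ Algebra.adjoin (R.map f) s ↔ z ∈ (Algebra.adjoin (R.map f) s).toSubring := Iff.rfl
  rw [h2, h]
  have h3 : Set.range (algebraMap (R.map f) L) = f '' R := by
    ext x
    constructor
    · rintro ⟨⟨y, hy⟩, rfl⟩
      exact hy
    · intro hx
      exact ⟨⟨x, hx⟩, rfl⟩
  rw [h3]

/-- The equality of the integral closure with the ring generated by `s`. -/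
theorem eq_adjoin_iff [Nontrivial L] (R : Subring K) (f : K →+* L) (s : Set L)
    (hs : ∀ c ∈ s, IntOver R f c) :
    integralClosure (R.map f) L = Algebra.adjoin (R.map f) s ↔
      ∀ z : L, IntOver R f z → z ∈ Subring.closure (f '' R ∪ s) := by
  constructor
  · intro h z hz
    rw [← mem_adjoin_map_iff, ← h]
    exact (isIntegral_map_iff R f z).2 hz
  · intro h
    refine le_antisymm (fun z hz => ?_) (Algebra.adjoin_le fun c hc => ?_)
    · rw [mem_adjoin_map_iff]
      exact h z ((isIntegral_map_iff R f z).1 hz)
    · exact (isIntegral_map_iff R f c).2 (hs c hc)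

/-- Clearing denominators. -/
theorem IntOver.exists_mul {R A : Subring K} {f : K →+* L} {z : L} (M : Submonoid K)
    (hMA : ∀ s ∈ M, s ∈ A) (hR : ∀ a ∈ R, ∃ s ∈ M, s * a ∈ A) (h : IntOver R f z) :
    ∃ s ∈ M, IntOver A f (f s * z) := by
  classical
  obtain ⟨p, hp, hc, hz⟩ := h
  have key : ∀ T : Finset ℕ, ∃ s ∈ M, ∀ i ∈ T, s * p.coeff i ∈ A := by
    intro T
    induction T using Finset.induction_on with
    | empty => exact ⟨1, M.one_mem, by simp⟩
    | insert a T _ ih =>
      obtain ⟨s, hs, hsT⟩ := ih
      obtain ⟨v, hv, hva⟩ := hR _ (hc a)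
      refine ⟨s * v, M.mul_mem hs hv, fun i hi => ?_⟩
      rcases Finset.mem_insert.mp hi with rfl | hi
      · rw [mul_assoc]; exact A.mul_mem (hMA s hs) hva
      · rw [mul_right_comm]; exact A.mul_mem (hsT i hi) (hMA v hv)
  obtain ⟨s, hs, hsT⟩ := key (Finset.range p.natDegree)
  refine ⟨s, hs, scaleRoots p s, (monic_scaleRoots_iff s).2 hp, fun i => ?_, ?_⟩
  · rw [coeff_scaleRoots]
    rcases lt_trichotomy i p.natDegree with hi | hi | hi
    · obtain ⟨m, hm⟩ : ∃ m, p.natDegree - i = m + 1 := ⟨p.natDegree - i - 1, by omega⟩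
      rw [hm, pow_succ, mul_comm, mul_assoc]
      exact A.mul_mem (A.pow_mem (hMA s hs) _) (hsT i (Finset.mem_range.2 hi))
    · rw [hi, hp.coeff_natDegree, one_mul]
      exact A.pow_mem (hMA s hs) _
    · rw [coeff_eq_zero_of_natDegree_lt hi, zero_mul]
      exact A.zero_mem
  · exact scaleRoots_eval₂_eq_zero f hz

/-- a constant algebraic over `k` -/
theorem intOver_of_isIntegral {k : Type*} [Field k] [Algebra k K] [Algebra k L] {R : Subring K}
    (hR : ∀ c : k, algebraMap k K c ∈ R) (f : K →+* L)
    (hf : ∀ c : k, f (algebraMap k K c) = algebraMap k L c) {z : L} (hz : IsIntegral k z) :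
    IntOver R f z := by
  obtain ⟨p, hp, hpz⟩ := hz
  refine ⟨p.map (algebraMap k K), hp.map _, fun i => ?_, ?_⟩
  · rw [coeff_map]; exact hR _
  · rw [eval₂_map]
    have : f.comp (algebraMap k K) = algebraMap k L := RingHom.ext hf
    rw [this, hpz]

end Basic

section Coord

variable {k k' K K' : Type*} [Field k] [Field k'] [Field K] [Field K']
  [Algebra k k'] [Algebra k K] [Algebra K K'] [Algebra k' K'] [Algebra k K']
  [IsScalarTower k k' K'] [IsScalarTower k K K']

/-- The elements of the ring generated by `R` and the constants `k'` are those with coordinates in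
`R`. -/
theorem mem_closure_iff {ι : Type*} [Fintype ι] (b : Module.Basis ι k k') (B : Module.Basis ι K K')
    (hB : ∀ i, B i = algebraMap k' K' (b i)) (R : Subring K) (hR : ∀ c : k, algebraMap k K c ∈ R)
    (z : K') : z ∈ Subring.closure (algebraMap K K' '' R ∪ Set.range (algebraMap k' K')) ↔
      ∀ i, B.repr z i ∈ R := by
  classical
  have hconst : ∀ c : k', ∀ i, B.repr (algebraMap k' K' c) i = algebraMap k K (b.repr c i) := by
    intro c i
    have h1 : algebraMap k' K' c = ∑ j, algebraMap k K (b.repr c j) • B j := by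
      conv_lhs => rw [← b.sum_repr c]
      rw [map_sum]
      refine Finset.sum_congr rfl fun j _ => ?_
      rw [hB, Algebra.smul_def, map_mul, Algebra.smul_def, ← IsScalarTower.algebraMap_apply k k' K',
        ← IsScalarTower.algebraMap_apply k K K']
    rw [h1, B.repr_sum_self]
  constructor
  · intro hz
    induction hz using Subring.closure_induction with
    | mem x hx =>
      rcases hx with ⟨r, hr, rfl⟩ | ⟨c, rfl⟩
      · intro i
        have h1 : algebraMap K K' r = r • algebraMap k' K' 1 := by
          rw [map_one, Algebra.smul_def, mul_one]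
        rw [h1, map_smul, Finsupp.smul_apply, hconst, smul_eq_mul]
        exact R.mul_mem hr (hR _)
      · intro i; rw [hconst]; exact hR _
    | zero => intro i; rw [map_zero]; exact R.zero_mem
    | one =>
      intro i
      rw [← map_one (algebraMap k' K'), hconst]; exact hR _
    | add x y _ _ hx hy => intro i; rw [map_add, Finsupp.add_apply]; exact R.add_mem (hx i) (hy i)
    | neg x _ hx => intro i; rw [map_neg, Finsupp.neg_apply]; exact R.neg_mem (hx i)
    | mul x y _ _ hx hy =>
      intro i
      have h1 : x * y = ∑ j, ∑ l, (B.repr x j * B.repr y l) • algebraMap k' K' (b j * b l) := by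
        conv_lhs => rw [← B.sum_repr x, ← B.sum_repr y]
        rw [Finset.sum_mul_sum]
        refine Finset.sum_congr rfl fun j _ => Finset.sum_congr rfl fun l _ => ?_
        rw [hB, hB, smul_mul_smul_comm, map_mul]
      rw [h1, map_sum, Finsupp.finsetSum_apply]
      refine R.sum_mem fun j _ => ?_
      rw [map_sum, Finsupp.finsetSum_apply]
      refine R.sum_mem fun l _ => ?_
      rw [map_smul, Finsupp.smul_apply, hconst, smul_eq_mul]
      exact R.mul_mem (R.mul_mem (hx j) (hy l)) (hR _)
  · intro h
    rw [← B.sum_repr z]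
    refine Subring.sum_mem _ fun i _ => ?_
    rw [Algebra.smul_def, hB]
    exact Subring.mul_mem _ (Subring.subset_closure (Or.inl ⟨_, h i, rfl⟩))
      (Subring.subset_closure (Or.inr ⟨_, rfl⟩))

/-- The basis of `K'` over `K` given by a basis of `k'` over `k`. -/
theorem exists_basis {ι : Type*} (b : Module.Basis ι k k')
    (h : Function.Bijective (K661.Scalar.mulMap k k' K K')) :
    ∃ B : Module.Basis ι K K', ∀ i, B i = algebraMap k' K' (b i) := by
  have hli : LinearIndependent K (fun i => algebraMap k' K' (b i)) := by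
    have h1 : LinearIndependent K (fun i => (1 : K) ⊗ₜ[k] b i) :=
      Module.Flat.linearIndependent_one_tmul b.linearIndependent
    rw [linearIndependent_iff'] at h1 ⊢
    intro s g hg i hi
    refine h1 s g ?_ i hi
    apply (Algebra.TensorProduct.comm k K k').injective
    apply h.1
    rw [map_zero, map_zero, map_sum, map_sum, ← hg]
    refine Finset.sum_congr rfl fun i _ => ?_
    rw [TensorProduct.smul_tmul', smul_eq_mul, mul_one, Algebra.TensorProduct.comm_tmul,
      K661.Scalar.mulMap_tmul, Algebra.smul_def, mul_comm]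
  have hsp : ⊤ ≤ Submodule.span K (Set.range fun i => algebraMap k' K' (b i)) := by
    rintro z -
    obtain ⟨w, rfl⟩ := h.2 z
    induction w with
    | zero => rw [map_zero]; exact zero_mem _
    | add a b ha hb => rw [map_add]; exact add_mem ha hb
    | tmul c x =>
      rw [K661.Scalar.mulMap_tmul]
      rw [mul_comm, ← Algebra.smul_def]
      refine Submodule.smul_mem _ _ ?_
      have hc := b.mem_span c
      induction hc using Submodule.span_induction with
      | mem x hx =>
        obtain ⟨i, rfl⟩ := hx
        exact Submodule.subset_span ⟨i, rfl⟩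
      | zero => rw [map_zero]; exact zero_mem _
      | add a b _ _ ha hb => rw [map_add]; exact add_mem ha hb
      | smul r a _ ha =>
        rw [Algebra.smul_def, map_mul, ← IsScalarTower.algebraMap_apply k k' K',
          IsScalarTower.algebraMap_apply k K K', ← Algebra.smul_def]
        exact Submodule.smul_mem _ _ ha
  exact ⟨Module.Basis.mk hli hsp, fun i => by rw [Module.Basis.mk_apply]⟩

end Coord

end K666.IntOver
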