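import Groth.Agent.FunFld.K666.IntOver

/-! Nonsingularity of places in towers of constant field extensions. -/

set_option autoImplicit false

namespace K666.NsTower

open Polynomial FunFld K666.IntOver K661.Place K661.Over IsDedekindDomain

section Below

variable {k K K' : Type*} [Field k] [Field K] [Field K'] [Algebra k K] [Algebra K K']
  [Algebra k K'] [IsScalarTower k K K'] [FiniteDimensional K K'] (P : Place k K)
  [Algebra P.O K'] [IsScalarTower P.O K K']

/-- An element of `O_Q` is a quotient of elements integral over `O_P`. -/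
theorem exists_mul_isIntegral (hf : Module.Finite P.O (integralClosure P.O K')) {Q : Place k K'}
    (hQ : IsOver Q P) {a : K'} (ha : Q.1 a ≤ 1) :
    ∃ s : K', Q.1 s = 1 ∧ IsIntegral P.O s ∧ IsIntegral P.O (s * a) := by
  have hd := isDedekind P hf
  have hfr := isFrac (K' := K') P
  obtain ⟨q, rfl⟩ := exists_placeOf P hQ
  obtain ⟨n, d, hnd⟩ := q.exists_primeCompl_mul_eq_of_integer (K := K') a ha
  refine ⟨((d : integralClosure P.O K') : K'), ?_, (d : integralClosure P.O K').2, ?_⟩
  · have := (q.intValuation_eq_one_iff_mem_primeCompl d).2 d.2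
    rw [← q.valuation_of_algebraMap (K := K')] at this
    exact this
  · have h1 : ((d : integralClosure P.O K') : K') * a = n := by rw [mul_comm]; exact hnd
    rw [h1]
    exact n.2

end Below

variable {k k' k'' : Type*} {K K' K'' : Type*} [Field k] [Field k'] [Field k''] [Field K]
    [Field K'] [Field K'']
    [Algebra k k'] [Algebra k' k''] [Algebra k k''] [IsScalarTower k k' k'']
    [FiniteDimensional k k'] [FiniteDimensional k' k'']
    [Algebra k K] [Algebra K K'] [Algebra k' K'] [Algebra k K'] [IsScalarTower k k' K']
    [IsScalarTower k K K']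
    [Algebra K' K''] [Algebra k'' K''] [Algebra k' K''] [Algebra k K''] [Algebra K K'']
    [IsScalarTower k' k'' K''] [IsScalarTower k' K' K''] [IsScalarTower K K' K'']
    [IsScalarTower k K K'']

theorem main (h1 : Function.Bijective (K661.Scalar.mulMap k k' K K'))
    (h2 : Function.Bijective (K661.Scalar.mulMap k' k'' K' K''))
    (hK : FunFld.IsFunctionField k K) (P : FunFld.Place k K) :
    (∀ z : K'', IntOver P.O.toSubring (algebraMap K K'') z →
        z ∈ Subring.closure (algebraMap K K'' '' P.O.toSubring ∪ Set.range (algebraMap k'' K''))) ↔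
      (∀ z : K', IntOver P.O.toSubring (algebraMap K K') z →
        z ∈ Subring.closure (algebraMap K K' '' P.O.toSubring ∪ Set.range (algebraMap k' K'))) ∧
      ∀ Q : FunFld.Place k K', FunFld.IsOver Q P →
        ∀ z : K'', IntOver Q.O.toSubring (algebraMap K' K'') z →
        z ∈ Subring.closure (algebraMap K' K'' '' Q.O.toSubring ∪
          Set.range (algebraMap k'' K'')) := by
  classical
  let b' := Module.finBasis k k'
  let b'' := Module.finBasis k' k''
  obtain ⟨B', hB'⟩ := exists_basis (K := K) (K' := K') b' h1
  obtain ⟨B'', hB''⟩ := exists_basis (K := K') (K' := K'') b'' h2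
  have hfd : FiniteDimensional K K' := Module.Finite.of_basis B'
  have t1 : IsScalarTower k k'' K'' := IsScalarTower.of_algebraMap_eq fun c => by
    rw [IsScalarTower.algebraMap_apply k K K'', IsScalarTower.algebraMap_apply K K' K'',
      ← IsScalarTower.algebraMap_apply k K K', IsScalarTower.algebraMap_apply k k' K',
      ← IsScalarTower.algebraMap_apply k' K' K'', IsScalarTower.algebraMap_apply k' k'' K'',
      ← IsScalarTower.algebraMap_apply k k' k'']
  have hkP : ∀ c : k, algebraMap k K c ∈ P.O.toSubring := fun c => P.2.1 c
  -- the three descriptions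
  have d1 := mem_closure_iff b' B' hB' P.O.toSubring hkP
  have hB : ∀ i, (B'.smulTower B'') i = algebraMap k'' K'' ((b'.smulTower b'') i) := by
    rintro ⟨i, j⟩
    rw [Module.Basis.smulTower_apply, Module.Basis.smulTower_apply, hB', hB'', Algebra.smul_def,
      Algebra.smul_def, map_mul, ← IsScalarTower.algebraMap_apply k' K' K'',
      ← IsScalarTower.algebraMap_apply k' k'' K'']
  have d2 := mem_closure_iff (b'.smulTower b'') (B'.smulTower B'') hB P.O.toSubring hkP
  let := K661.OverFF.algO P K'
  have := K661.OverFF.towerO P K'
  have hf := K661.OverFF.finite_O (K' := K') (K660.Places.exists_isGen hK) P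
  have hded := isDedekind P hf
  have hint : ∀ z : K', IsIntegral P.O z ↔ IntOver P.O.toSubring (algebraMap K K') z :=
    isIntegral_iff P.O.toSubring (algebraMap K K') (fun r => rfl)
  have hQk' : ∀ Q : Place k K', IsOver Q P → ∀ c : k', Q.1 (algebraMap k' K' c) ≤ 1 := by
    intro Q hQ c
    apply integralClosure_le P hQ
    rw [hint]
    apply intOver_of_isIntegral hkP (algebraMap K K')
      (fun c => (IsScalarTower.algebraMap_apply k K K' c).symm)
    exact (Algebra.IsIntegral.isIntegral (R := k) c).algebraMap
  have d3 : ∀ Q : Place k K', IsOver Q P → ∀ z : K'',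
      z ∈ Subring.closure (algebraMap K' K'' '' Q.O.toSubring ∪ Set.range (algebraMap k'' K'')) ↔
        ∀ i, B''.repr z i ∈ Q.O.toSubring :=
    fun Q hQ => mem_closure_iff b'' B'' hB'' Q.O.toSubring (hQk' Q hQ)
  have hup : ∀ (z : K'), IntOver P.O.toSubring (algebraMap K K') z →
      IntOver P.O.toSubring (algebraMap K K'') (algebraMap K' K'' z) := by
    rintro z ⟨p, hp, hc, hz⟩
    refine ⟨p, hp, hc, ?_⟩
    rw [IsScalarTower.algebraMap_eq K K' K'', ← hom_eval₂, hz, map_zero]
  -- integral over `O_P` implies integral over `O_Q`
  have hup2 : ∀ Q : Place k K', IsOver Q P → ∀ z : K'', IntOver P.O.toSubring (algebraMap K K'') z →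
      IntOver Q.O.toSubring (algebraMap K' K'') z := by
    rintro Q hQ z ⟨p, hp, hc, hz⟩
    refine ⟨p.map (algebraMap K K'), hp.map _, fun i => ?_, ?_⟩
    · rw [coeff_map]
      change Q.1 _ ≤ 1
      rw [val_algebraMap_le_one_iff hQ]
      exact hc i
    · rw [eval₂_map, ← IsScalarTower.algebraMap_eq, hz]
  constructor
  · intro H
    have H' : ∀ z : K'', IntOver P.O.toSubring (algebraMap K K'') z →
        ∀ i j, B'.repr (B''.repr z j) i ∈ P.O.toSubring := by
      intro z hz i j
      have := (d2 z).1 (H z hz) (i, j)
      rwa [Module.Basis.smulTower_repr] at this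
    refine ⟨fun z hz => ?_, fun Q hQ z hz => ?_⟩
    · -- part 1
      have hz2 := hup z hz
      -- some coordinate of `1` is nonzero
      obtain ⟨j, hj⟩ : ∃ j, b''.repr 1 j ≠ 0 := by
        by_contra hcon
        push Not at hcon
        have : b''.repr 1 = 0 := Finsupp.ext hcon
        rw [LinearEquiv.map_eq_zero_iff] at this
        exact one_ne_zero this
      have h3 : B''.repr (algebraMap K' K'' z) j = z * algebraMap k' K' (b''.repr 1 j) := by
        have e1 : algebraMap K' K'' z = ∑ l, (z * algebraMap k' K' (b''.repr 1 l)) • B'' l := by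
          have e2 : (1 : k'') = ∑ l, b''.repr 1 l • b'' l := (b''.sum_repr 1).symm
          have e3 : (1 : K'') = ∑ l, algebraMap k' K' (b''.repr 1 l) • B'' l := by
            rw [← map_one (algebraMap k'' K'')]
            conv_lhs => rw [e2]
            rw [map_sum]
            refine Finset.sum_congr rfl fun l _ => ?_
            rw [Algebra.smul_def, map_mul, ← IsScalarTower.algebraMap_apply k' k'' K'',
              IsScalarTower.algebraMap_apply k' K' K'', ← Algebra.smul_def, hB'']
          calc algebraMap K' K'' z = z • (1 : K'') := by rw [Algebra.smul_def, mul_one]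
            _ = z • ∑ l, algebraMap k' K' (b''.repr 1 l) • B'' l := by rw [← e3]
            _ = _ := by
              rw [Finset.smul_sum]
              exact Finset.sum_congr rfl fun l _ => smul_smul _ _ _
        rw [e1, B''.repr_sum_self]
      have h4 : z * algebraMap k' K' (b''.repr 1 j) ∈ Subring.closure
          (algebraMap K K' '' P.O.toSubring ∪ Set.range (algebraMap k' K')) := by
        rw [d1]
        intro i
        rw [← h3]
        exact H' _ hz2 i j
      have h5 : z = (z * algebraMap k' K' (b''.repr 1 j)) * algebraMap k' K' (b''.repr 1 j)⁻¹ := by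
        rw [mul_assoc, ← map_mul, mul_inv_cancel₀ hj, map_one, mul_one]
      rw [h5]
      exact Subring.mul_mem _ h4 (Subring.subset_closure (Or.inr ⟨_, rfl⟩))
    · -- part 2
      rw [d3 Q hQ]
      intro j
      -- clear denominators
      let A : Subring K' := (integralClosure P.O K').toSubring
      let M : Submonoid K' :=
        { carrier := {s | Q.1 s = 1 ∧ IsIntegral P.O s}
          mul_mem' := by
            rintro a b ⟨ha, ha'⟩ ⟨hb, hb'⟩
            exact ⟨by rw [map_mul, ha, hb, one_mul], ha'.mul hb'⟩
          one_mem' := ⟨map_one _, isIntegral_one⟩ }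
      obtain ⟨s, ⟨hs, -⟩, hsz⟩ := hz.exists_mul (A := A) M (fun s hs => hs.2) (fun a ha => by
        obtain ⟨s, hs, hs1, hs2⟩ := exists_mul_isIntegral P hf hQ (a := a) ha
        exact ⟨s, ⟨hs, hs1⟩, hs2⟩)
      -- `s z` is integral over `O_P`
      let a2 : Algebra P.O K'' := ((algebraMap K' K'').comp (algebraMap P.O K')).toAlgebra
      have t2 : IsScalarTower P.O K' K'' := IsScalarTower.of_algebraMap_eq fun _ => rfl
      have t3 : IsScalarTower P.O (integralClosure P.O K') K'' :=
        IsScalarTower.of_algebraMap_eq fun _ => rfl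
      have h6 : IsIntegral (integralClosure P.O K') (algebraMap K' K'' s * z) := by
        have := (isIntegral_iff A (algebraMap K' K'') (fun r => rfl) _).2 hsz
        exact this
      have h7 : IsIntegral P.O (algebraMap K' K'' s * z) :=
        isIntegral_trans (A := integralClosure P.O K') _ h6
      have h8 : IntOver P.O.toSubring (algebraMap K K'') (algebraMap K' K'' s * z) :=
        (isIntegral_iff P.O.toSubring (algebraMap K K'') (fun r => by
          rw [IsScalarTower.algebraMap_apply K K' K'']; rfl) _).1 h7
      have h9 : ∀ i, B'.repr (B''.repr (algebraMap K' K'' s * z) j) i ∈ P.O.toSubring :=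
        fun i => H' _ h8 i j
      rw [← Algebra.smul_def, map_smul, Finsupp.smul_apply, smul_eq_mul] at h9
      have h10 := (d1 _).2 h9
      have h11 : IsIntegral P.O (s * B''.repr z j) := by
        have hle : Subring.closure (algebraMap K K' '' P.O.toSubring ∪
            Set.range (algebraMap k' K')) ≤ A := by
          rw [Subring.closure_le]
          rintro _ (⟨r, hr, rfl⟩ | ⟨c, rfl⟩)
          · exact isIntegral_algebraMap (R := P.O) (x := (⟨r, hr⟩ : P.O))
          · change IsIntegral P.O _
            rw [hint]
            exact intOver_of_isIntegral hkP (algebraMap K K')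
              (fun c => (IsScalarTower.algebraMap_apply k K K' c).symm)
              (Algebra.IsIntegral.isIntegral (R := k) c).algebraMap
        exact hle h10
      have h12 := integralClosure_le P hQ h11
      rw [map_mul, hs, one_mul] at h12
      exact h12
  · rintro ⟨H1, H2⟩ z hz
    rw [d2]
    rintro ⟨i, j⟩
    rw [Module.Basis.smulTower_repr]
    have h3 : IsIntegral P.O (B''.repr z j) := K666.MinpUnif.isIntegral_of_forall hK P _ (by
      intro Q hQ
      exact (d3 Q hQ z).1 (H2 Q hQ z (hup2 Q hQ z hz)) j)
    exact (d1 _).1 (H1 _ ((hint _).1 h3)) i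

end K666.NsTower
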