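import Mathlib.LinearAlgebra.FiniteDimensional.Basic
import Mathlib.LinearAlgebra.FiniteDimensional.Lemmas
import Mathlib.RingTheory.Finiteness.Finsupp
import Mathlib.LinearAlgebra.Isomorphisms

/-! Relative dimension of subspaces `N ≤ M` of a vector space. -/

set_option autoImplicit false

namespace K666.Rel

variable {k V : Type*} [Field k] [AddCommGroup V] [Module k V]

/-- `M / N` is finite dimensional. -/
def Fin (M N : Submodule k V) : Prop := FiniteDimensional k (M ⧸ N.submoduleOf M)

/-- `dim M / N`. -/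
noncomputable def rel (M N : Submodule k V) : ℕ := Module.finrank k (M ⧸ N.submoduleOf M)

variable {M N L : Submodule k V}

/-- `N / L → M / L` -/
noncomputable def inc (h : N ≤ M) (L : Submodule k V) :
    (N ⧸ L.submoduleOf N) →ₗ[k] (M ⧸ L.submoduleOf M) :=
  Submodule.mapQ _ _ (Submodule.inclusion h) (fun _ hx => hx)

/-- `M / L → M / N` -/
noncomputable def pro (h : L ≤ N) (M : Submodule k V) :
    (M ⧸ L.submoduleOf M) →ₗ[k] (M ⧸ N.submoduleOf M) :=
  Submodule.mapQ _ _ LinearMap.id (fun _ hx => h hx)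

theorem inc_injective (h : N ≤ M) (L : Submodule k V) : Function.Injective (inc h L) := by
  rw [← LinearMap.ker_eq_bot, LinearMap.ker_eq_bot']
  intro x hx
  obtain ⟨x, rfl⟩ := Submodule.Quotient.mk_surjective _ x
  rw [inc, Submodule.mapQ_apply, Submodule.Quotient.mk_eq_zero] at hx
  rw [Submodule.Quotient.mk_eq_zero]
  exact hx

theorem pro_surjective (h : L ≤ N) (M : Submodule k V) : Function.Surjective (pro h M) := by
  intro x
  obtain ⟨x, rfl⟩ := Submodule.Quotient.mk_surjective _ x
  exact ⟨Submodule.Quotient.mk x, rfl⟩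

theorem ker_pro (h : L ≤ N) (h' : N ≤ M) :
    LinearMap.ker (pro h M) = LinearMap.range (inc h' L) := by
  ext x
  obtain ⟨x, rfl⟩ := Submodule.Quotient.mk_surjective _ x
  rw [LinearMap.mem_ker, pro, Submodule.mapQ_apply, Submodule.Quotient.mk_eq_zero]
  constructor
  · intro hx
    exact ⟨Submodule.Quotient.mk ⟨x, hx⟩, rfl⟩
  · rintro ⟨y, hy⟩
    obtain ⟨y, rfl⟩ := Submodule.Quotient.mk_surjective _ y
    rw [inc, Submodule.mapQ_apply, eq_comm, Submodule.Quotient.eq] at hy
    have hy' : (x : V) - y ∈ L := hy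
    change (x : V) ∈ N
    have : (x : V) = (x - y) + y := by abel
    rw [this]
    exact N.add_mem (h hy') y.2

theorem fin_of_fin (h : L ≤ N) (h' : N ≤ M) (hf : Fin M L) : Fin M N ∧ Fin N L := by
  have hf' : FiniteDimensional k (M ⧸ L.submoduleOf M) := hf
  exact ⟨Module.Finite.of_surjective (pro h M) (pro_surjective h M),
    Module.Finite.of_injective (inc h' L) (inc_injective h' L)⟩

theorem fin_trans (h : L ≤ N) (h' : N ≤ M) (h1 : Fin M N) (h2 : Fin N L) : Fin M L := by
  have h1' : FiniteDimensional k (M ⧸ N.submoduleOf M) := h1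
  have h2' : FiniteDimensional k (N ⧸ L.submoduleOf N) := h2
  have h3 : FiniteDimensional k (LinearMap.ker (pro h M)) := by
    rw [ker_pro h h']
    infer_instance
  have h4 : FiniteDimensional k ((M ⧸ L.submoduleOf M) ⧸ LinearMap.ker (pro h M)) :=
    Module.Finite.equiv ((pro h M).quotKerEquivOfSurjective (pro_surjective h M)).symm
  exact Module.Finite.of_submodule_quotient (LinearMap.ker (pro h M))

theorem rel_add (h : L ≤ N) (h' : N ≤ M) (hf : Fin M L) : rel M L = rel M N + rel N L := by
  have hf' : FiniteDimensional k (M ⧸ L.submoduleOf M) := hf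
  have h1 := LinearMap.finrank_range_add_finrank_ker (pro h M)
  rw [LinearMap.range_eq_top.2 (pro_surjective h M), finrank_top, ker_pro h h',
    LinearMap.finrank_range_of_inj (inc_injective h' L)] at h1
  exact h1.symm

theorem rel_self (M : Submodule k V) : Fin M M ∧ rel M M = 0 := by
  have h1 : M.submoduleOf M = ⊤ := by
    rw [eq_top_iff]
    intro x _
    exact x.2
  constructor
  · unfold Fin
    rw [h1]
    infer_instance
  · unfold rel
    rw [h1]
    exact Module.finrank_zero_of_subsingleton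

/-- one step -/
theorem rel_one (z : V) (hz : z ∈ M) (hzN : z ∉ N) (h : ∀ x ∈ M, ∃ c : k, x - c • z ∈ N) :
    Fin M N ∧ rel M N = 1 := by
  have hne : (Submodule.Quotient.mk (⟨z, hz⟩ : M) : M ⧸ N.submoduleOf M) ≠ 0 := by
    rw [Ne, Submodule.Quotient.mk_eq_zero]
    exact hzN
  have hgen : ∀ w : M ⧸ N.submoduleOf M, ∃ c : k,
      c • (Submodule.Quotient.mk (⟨z, hz⟩ : M) : M ⧸ N.submoduleOf M) = w := by
    intro w
    obtain ⟨w, rfl⟩ := Submodule.Quotient.mk_surjective _ w
    obtain ⟨c, hc⟩ := h w w.2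
    refine ⟨c, ?_⟩
    rw [← Submodule.Quotient.mk_smul, eq_comm, Submodule.Quotient.eq]
    exact hc
  have h1 := finrank_eq_one _ hne hgen
  refine ⟨?_, h1⟩
  exact Module.finite_of_finrank_pos (by rw [h1]; exact one_pos)

/-- invariance under linear equivalences -/
theorem rel_map (e : V ≃ₗ[k] V) (M N : Submodule k V) (hf : Fin M N) :
    Fin (M.map e.toLinearMap) (N.map e.toLinearMap) ∧
      rel (M.map e.toLinearMap) (N.map e.toLinearMap) = rel M N := by
  have hf' : FiniteDimensional k (M ⧸ N.submoduleOf M) := hf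
  let φ : (M ⧸ N.submoduleOf M) ≃ₗ[k]
      (M.map e.toLinearMap ⧸ (N.map e.toLinearMap).submoduleOf (M.map e.toLinearMap)) :=
    Submodule.Quotient.equiv _ _ (e.submoduleMap M) (by
      ext ⟨x, hx⟩
      constructor
      · rintro ⟨y, hy, hyx⟩
        have hyx' : e (y : V) = x := congrArg Subtype.val hyx
        exact ⟨y, hy, hyx'⟩
      · rintro ⟨y, hy, hyx⟩
        obtain ⟨m, hm, hmx⟩ := hx
        have h3 : y = m := e.injective (by
          rw [show e y = x from hyx]; exact hmx.symm)
        subst h3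
        exact ⟨⟨y, hm⟩, hy, Subtype.ext hyx⟩)
  exact ⟨Module.Finite.equiv φ, φ.symm.finrank_eq⟩

end K666.Rel
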