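import Groth.Agent.FunFld.K666.Rel
import Groth.Agent.FunFld.K666.Basic
import Groth.Agent.FunFld.K664.WeakApprox
import Groth.Agent.FunFld.K661.Place

/-! Semilocal approximation: dimensions of quotients of `{z | ord_Q z ≥ a Q}`, `Q ∈ S`. -/

set_option autoImplicit false

namespace K666.SemiLoc

open FunFld WithZero K666.Rel

variable {k K : Type*} [Field k] [Field K] [Algebra k K]

/-- `{z | ord_Q z ≥ a Q for Q ∈ S}` -/
def V (S : Finset (Place k K)) (a : Place k K → ℤ) : Submodule k K where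
  carrier := {z | ∀ Q ∈ S, Q.1 z ≤ exp (-(a Q))}
  add_mem' := by
    intro x y hx hy Q hQ
    exact (Q.1.map_add _ _).trans (max_le (hx Q hQ) (hy Q hQ))
  zero_mem' := by intro Q _; rw [map_zero]; exact zero_le
  smul_mem' := by
    intro c x hx Q hQ
    exact (K664.val_smul_le Q c x).trans (hx Q hQ)

theorem mem_V {S : Finset (Place k K)} {a : Place k K → ℤ} {z : K} :
    z ∈ V S a ↔ ∀ Q ∈ S, Q.1 z ≤ exp (-(a Q)) := Iff.rfl

theorem V_mono {S : Finset (Place k K)} {a b : Place k K → ℤ} (h : ∀ Q ∈ S, a Q ≤ b Q) :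
    V S b ≤ V S a := by
  intro z hz Q hQ
  refine (hz Q hQ).trans ?_
  rw [exp_le_exp]
  have := h Q hQ
  omega

/-- multiplication by a nonzero element -/
noncomputable def mulE (g : K) (hg : g ≠ 0) : K ≃ₗ[k] K :=
  LinearEquiv.ofBijective (LinearMap.mulLeft k g)
    ⟨fun _ _ h => mul_left_cancel₀ hg h, fun y => ⟨g⁻¹ * y, mul_inv_cancel_left₀ hg y⟩⟩

theorem mulE_apply (g : K) (hg : g ≠ 0) (z : K) : mulE (k := k) g hg z = g * z := rfl

theorem map_V (S : Finset (Place k K)) (a : Place k K → ℤ) (g : K) (hg : g ≠ 0) :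
    (V S a).map (mulE (k := k) g hg).toLinearMap = V S (fun Q => Q.ord g + a Q) := by
  ext z
  constructor
  · rintro ⟨y, hy, rfl⟩ Q hQ
    change Q.1 (g * y) ≤ _
    rw [map_mul, K664.val_eq_exp Q hg, neg_add, exp_add]
    exact mul_le_mul_right (hy Q hQ) _
  · intro hz
    refine ⟨g⁻¹ * z, fun Q hQ => ?_, mul_inv_cancel_left₀ hg z⟩
    have h1 := hz Q hQ
    rw [neg_add, exp_add] at h1
    rw [map_mul, map_inv₀, K664.val_eq_exp Q hg, ← exp_neg, neg_neg]
    calc exp (Q.ord g) * Q.1 z ≤ exp (Q.ord g) * (exp (-(Q.ord g)) * exp (-(a Q))) :=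
          mul_le_mul_right h1 _
      _ = exp (-(a Q)) := by rw [← mul_assoc, ← exp_add, add_neg_cancel, exp_zero, one_mul]

variable [IsAlgClosed k]

theorem fin_rel (hK : IsFunctionField k K) (S : Finset (Place k K)) (a : Place k K → ℤ) (n : ℕ) :
    ∀ b : Place k K → ℤ, (∀ Q ∈ S, a Q ≤ b Q) → ∑ Q ∈ S, (b Q - a Q) = n →
      Fin (V S a) (V S b) ∧ rel (V S a) (V S b) = n := by
  classical
  induction n with
  | zero =>
    intro b hab hsum
    have h1 : ∀ Q ∈ S, b Q - a Q = 0 := by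
      rw [← Finset.sum_eq_zero_iff_of_nonneg]
      · exact_mod_cast hsum
      · intro Q hQ; have := hab Q hQ; omega
    have h2 : V S b = V S a := by
      apply le_antisymm (V_mono hab)
      apply V_mono
      intro Q hQ
      have := h1 Q hQ
      omega
    rw [h2]
    exact rel_self _
  | succ n ih =>
    intro b hab hsum
    obtain ⟨Q₀, hQ₀, hlt⟩ : ∃ Q ∈ S, a Q < b Q := by
      by_contra hcon
      push Not at hcon
      have : ∑ Q ∈ S, (b Q - a Q) ≤ 0 := Finset.sum_nonpos fun Q hQ => by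
        have := hcon Q hQ; omega
      rw [hsum] at this
      push_cast at this
      omega
    set b' : Place k K → ℤ := Function.update b Q₀ (b Q₀ - 1) with hb'
    have e1 : b' Q₀ = b Q₀ - 1 := Function.update_self _ _ _
    have e2 : ∀ Q, Q ≠ Q₀ → b' Q = b Q := fun Q hQ => Function.update_of_ne hQ _ _
    have hab' : ∀ Q ∈ S, a Q ≤ b' Q := by
      intro Q hQ
      by_cases h : Q = Q₀
      · rw [h, e1]; omega
      · rw [e2 Q h]; exact hab Q hQ
    have hbb' : ∀ Q ∈ S, b' Q ≤ b Q := by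
      intro Q hQ
      by_cases h : Q = Q₀
      · rw [h, e1]; omega
      · rw [e2 Q h]
    have hsum' : ∑ Q ∈ S, (b' Q - a Q) = n := by
      have h1 : ∑ Q ∈ S, (b Q - a Q) = ∑ Q ∈ S, (b' Q - a Q) + 1 := by
        rw [← Finset.add_sum_erase S _ hQ₀, ← Finset.add_sum_erase S (fun Q => b' Q - a Q) hQ₀, e1]
        have h2 : ∑ Q ∈ S.erase Q₀, (b Q - a Q) = ∑ Q ∈ S.erase Q₀, (b' Q - a Q) :=
          Finset.sum_congr rfl fun Q hQ => by rw [e2 Q (Finset.ne_of_mem_erase hQ)]
        rw [h2]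
        ring
      rw [hsum] at h1
      push_cast at h1
      omega
    obtain ⟨f1, r1⟩ := ih b' hab' hsum'
    -- the last step
    obtain ⟨z, hz⟩ := K664.weak_approx_eq S (fun _ => (0 : K)) b'
    simp only [sub_zero] at hz
    have hz0 : z ≠ 0 := by
      intro h
      have := hz Q₀ hQ₀
      rw [h, map_zero] at this
      exact exp_ne_zero this.symm
    obtain ⟨f2, r2⟩ : Fin (V S b') (V S b) ∧ rel (V S b') (V S b) = 1 := by
      refine rel_one z (fun Q hQ => (hz Q hQ).le) ?_ ?_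
      · intro h
        have := h Q₀ hQ₀
        rw [hz Q₀ hQ₀, e1, exp_le_exp] at this
        omega
      · intro x hx
        have h1 : Q₀.1 (x / z) ≤ 1 := by
          rw [map_div₀, hz Q₀ hQ₀]
          exact div_le_one_of_le₀ (hx Q₀ hQ₀) zero_le
        obtain ⟨c, hc⟩ := K666.Basic.exists_const hK Q₀ (x / z) h1
        refine ⟨c, fun Q hQ => ?_⟩
        by_cases h : Q = Q₀
        · subst h
          have e3 : x - c • z = (x / z - algebraMap k K c) * z := by
            rw [sub_mul, div_mul_cancel₀ _ hz0, Algebra.smul_def]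
          rw [e3, map_mul, hz Q hQ, e1]
          have h4 : Q.1 (x / z - algebraMap k K c) ≤ exp (-1 : ℤ) :=
            (K661.Place.val_lt_one_iff_le Q _).mp hc
          calc Q.1 (x / z - algebraMap k K c) * exp (-(b Q - 1)) ≤
              exp (-1 : ℤ) * exp (-(b Q - 1)) := mul_le_mul_left h4 _
            _ = exp (-(b Q)) := by rw [← exp_add]; congr 1; ring
        · have h5 : x - c • z ∈ V S b' := Submodule.sub_mem _ hx
            (Submodule.smul_mem _ _ (fun Q hQ => (hz Q hQ).le))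
          have := h5 Q hQ
          rwa [e2 Q h] at this
    have f3 := fin_trans (V_mono hbb') (V_mono hab') f1 f2
    refine ⟨f3, ?_⟩
    rw [rel_add (V_mono hbb') (V_mono hab') f3, r1, r2]

/-- The dimension of `O / g O` for an order `O` in the semilocal ring of `S`. -/
theorem rel_order (hK : IsFunctionField k K) (S : Finset (Place k K)) (O : Subalgebra k K)
    (hO : ∀ z ∈ O, ∀ Q ∈ S, Q.1 z ≤ 1) (d : K) (hd0 : d ≠ 0)
    (hd : ∀ z, (∀ Q ∈ S, Q.1 z ≤ 1) → d * z ∈ O) (g : K) (hg0 : g ≠ 0) (hg : g ∈ O) :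
    (rel (Subalgebra.toSubmodule O) ((Subalgebra.toSubmodule O).map
      (mulE (k := k) g hg0).toLinearMap) : ℤ) = ∑ Q ∈ S, Q.ord g := by
  set M := V S (fun _ : Place k K => 0) with hM
  set N := Subalgebra.toSubmodule O with hN
  have hMmem : ∀ z, z ∈ M ↔ ∀ Q ∈ S, Q.1 z ≤ 1 := by
    intro z
    rw [hM, mem_V]
    simp
  have hNM : N ≤ M := fun z hz => (hMmem z).2 (hO z hz)
  have hord : ∀ x ∈ O, x ≠ 0 → ∀ Q ∈ S, 0 ≤ Q.ord x := fun x hx hx0 Q hQ =>
    (K664.val_le_one_iff Q hx0).1 (hO x hx Q hQ)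
  have hdO : d ∈ O := by
    have := hd 1 (fun Q _ => by rw [map_one])
    rwa [mul_one] at this
  -- `d M ≤ N`
  have hdM : M.map (mulE (k := k) d hd0).toLinearMap ≤ N := by
    rintro _ ⟨z, hz, rfl⟩
    exact hd z ((hMmem z).1 hz)
  -- finiteness
  have hfin : ∀ x ∈ O, ∀ hx0 : x ≠ 0, Fin M (M.map (mulE (k := k) x hx0).toLinearMap) ∧
      (rel M (M.map (mulE (k := k) x hx0).toLinearMap) : ℤ) = ∑ Q ∈ S, Q.ord x := by
    intro x hx hx0
    have h1 : 0 ≤ ∑ Q ∈ S, Q.ord x := Finset.sum_nonneg fun Q hQ => hord x hx hx0 Q hQ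
    have h2 := fin_rel hK S (fun _ => 0) (∑ Q ∈ S, Q.ord x).toNat (fun Q => Q.ord x + 0)
      (fun Q hQ => by have := hord x hx hx0 Q hQ; simpa using this) (by
        simp only [add_zero, sub_zero]
        exact (Int.toNat_of_nonneg h1).symm)
    rw [hM, map_V]
    exact ⟨h2.1, by rw [h2.2]; exact Int.toNat_of_nonneg h1⟩
  obtain ⟨fd, -⟩ := hfin d hdO hd0
  obtain ⟨fg, rg⟩ := hfin g hg hg0
  have fMN : Fin M N := (fin_of_fin hdM hNM fd).1
  obtain ⟨f1, r1⟩ := rel_map (mulE (k := k) g hg0) M N fMN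
  -- the inclusions
  have i1 : N.map (mulE (k := k) g hg0).toLinearMap ≤ N := by
    rintro _ ⟨z, hz, rfl⟩
    exact O.mul_mem hg hz
  have i2 : N.map (mulE (k := k) g hg0).toLinearMap ≤ M.map (mulE (k := k) g hg0).toLinearMap :=
    Submodule.map_mono hNM
  have i3 : M.map (mulE (k := k) g hg0).toLinearMap ≤ M := by
    rintro _ ⟨z, hz, rfl⟩
    rw [hMmem]
    intro Q hQ
    change Q.1 (g * z) ≤ 1
    rw [map_mul]
    exact mul_le_one' (hO g hg Q hQ) ((hMmem z).1 hz Q hQ)
  have f2 := fin_trans i2 i3 fg f1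
  have e1 := rel_add i2 i3 f2
  have e2 := rel_add i1 hNM f2
  rw [r1] at e1
  rw [← rg]
  have : rel N (N.map (mulE (k := k) g hg0).toLinearMap) =
      rel M (M.map (mulE (k := k) g hg0).toLinearMap) := by omega
  rw [this]

end K666.SemiLoc
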