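import Groth.Agent.FunFld.K661.OverFF
import Groth.Agent.FunFld.K664.WeakApprox
import Mathlib.RingTheory.DedekindDomain.Different
import Mathlib.FieldTheory.Minpoly.IsIntegrallyClosed

/-! The ring `O_P[s]` near a place where `s` is a uniformizer, and the trace dual. -/

set_option autoImplicit false

namespace K666.TraceDual

open FunFld WithZero K661.Place K661.Over Polynomial

variable {k K K' : Type*} [Field k] [Field K] [Field K'] [Algebra k K] [Algebra K K'] [Algebra k K']
  [IsScalarTower k K K'] [FiniteDimensional K K'] (P : Place k K)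
  [Algebra P.O K'] [IsScalarTower P.O K K'] {Q : Place k K'} (hQ : IsOver Q P) {s : K'}

include hQ in
theorem val_aeval_le (hs1 : Q.1 s ≤ 1) (b : K') (hb : b ∈ Algebra.adjoin P.O ({s} : Set K')) :
    Q.1 b ≤ 1 := by
  induction hb using Algebra.adjoin_induction with
  | mem x hx => rw [Set.mem_singleton_iff.mp hx]; exact hs1
  | algebraMap r => rw [algebraMap_O, val_algebraMap_le_one_iff hQ]; exact r.2
  | add x y _ _ hx hy => exact (Q.1.map_add _ _).trans (max_le hx hy)
  | mul x y _ _ hx hy => rw [map_mul]; exact mul_le_one' hx hy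

include hQ in
/-- elements of `O_P[s]` vanishing at `Q` are multiples of `s` -/
theorem exists_eq_mul (hint : IsIntegral P.O s) (hs : Q.1 s = exp (-1 : ℤ))
    (h0 : P.1 ((minpoly K s).coeff 0) = exp (-1 : ℤ)) (b : K')
    (hb : b ∈ Algebra.adjoin P.O ({s} : Set K')) (hb1 : Q.1 b < 1) :
    ∃ b' ∈ Algebra.adjoin P.O ({s} : Set K'), b = s * b' := by
  have hmem : ∀ p : P.O[X], aeval s p ∈ Algebra.adjoin P.O ({s} : Set K') := fun p => by
    rw [Algebra.adjoin_singleton_eq_range_aeval]; exact ⟨p, rfl⟩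
  -- the constant coefficient of the minimal polynomial is a multiple of `s`
  set f := minpoly P.O s with hf
  have hf0 : (f.coeff 0 : K) = (minpoly K s).coeff 0 := by
    rw [minpoly.isIntegrallyClosed_eq_field_fractions' K hint, Polynomial.coeff_map]; rfl
  have e1 : algebraMap P.O K' (f.coeff 0) = s * -(aeval s f.divX) := by
    have h1 : aeval s f = 0 := minpoly.aeval _ _
    rw [← Polynomial.divX_mul_X_add f, map_add, map_mul, aeval_X, aeval_C] at h1
    linear_combination h1
  rw [Algebra.adjoin_singleton_eq_range_aeval] at hb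
  obtain ⟨p, rfl⟩ := hb
  change Q.1 (aeval s p) < 1 at hb1
  change ∃ b' ∈ _, aeval s p = _
  have e2 : aeval s p = s * aeval s p.divX + algebraMap P.O K' (p.coeff 0) := by
    conv_lhs => rw [← Polynomial.divX_mul_X_add p]
    rw [map_add, map_mul, aeval_X, aeval_C]; ring
  have hs1 : Q.1 s < 1 := by rw [hs, ← exp_zero, exp_lt_exp]; omega
  have h2 : Q.1 (algebraMap P.O K' (p.coeff 0)) < 1 := by
    have h3 : algebraMap P.O K' (p.coeff 0) = aeval s p - s * aeval s p.divX := by rw [e2]; ring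
    rw [h3]
    apply Q.1.map_sub_lt hb1
    rw [map_mul]
    exact mul_lt_one_of_nonneg_of_lt_one_left zero_le hs1
      (val_aeval_le P hQ hs1.le _ (hmem _))
  rw [algebraMap_O, val_algebraMap_lt_one_iff hQ, val_lt_one_iff_le] at h2
  have h4 : P.1 ((p.coeff 0 : K) / (f.coeff 0 : K)) ≤ 1 := by
    rw [map_div₀, hf0, h0]
    exact div_le_one_of_le₀ h2 zero_le
  have hf0' : (f.coeff 0 : K) ≠ 0 := by
    intro h
    rw [← hf0, h, map_zero] at h0
    exact exp_ne_zero h0.symm
  have e3 : algebraMap P.O K' (p.coeff 0) =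
      algebraMap P.O K' ⟨_, h4⟩ * algebraMap P.O K' (f.coeff 0) := by
    rw [← map_mul]
    congr 1
    ext
    exact (div_mul_cancel₀ _ hf0').symm
  refine ⟨aeval s p.divX + algebraMap P.O K' ⟨_, h4⟩ * -(aeval s f.divX), ?_, ?_⟩
  · exact Subalgebra.add_mem _ (hmem _) (Subalgebra.mul_mem _ (Subalgebra.algebraMap_mem _ _)
      (Subalgebra.neg_mem _ (hmem _)))
  · rw [e2, e3, e1]; ring

include hQ in
theorem exists_eq_pow_mul (hint : IsIntegral P.O s) (hs : Q.1 s = exp (-1 : ℤ))
    (h0 : P.1 ((minpoly K s).coeff 0) = exp (-1 : ℤ)) (n : ℕ) (b : K')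
    (hb : b ∈ Algebra.adjoin P.O ({s} : Set K')) (hb1 : Q.1 b = exp (-(n : ℤ))) :
    ∃ v ∈ Algebra.adjoin P.O ({s} : Set K'), Q.1 v = 1 ∧ b = s ^ n * v := by
  induction n generalizing b with
  | zero => exact ⟨b, hb, by simpa using hb1, by simp⟩
  | succ n ih =>
    obtain ⟨b', hb', rfl⟩ := exists_eq_mul P hQ hint hs h0 b hb (by
      rw [hb1, ← exp_zero, exp_lt_exp]; push_cast; omega)
    obtain ⟨v, hv, hv1, rfl⟩ := ih b' hb' (by
      rw [map_mul, hs] at hb1
      have h1 : Q.1 b' = exp (1 : ℤ) * (exp (-1 : ℤ) * Q.1 b') := by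
        rw [← mul_assoc, ← exp_add]; simp
      rw [h1, hb1, ← exp_add]
      congr 1; push_cast; ring)
    exact ⟨v, hv, hv1, by ring⟩

omit [Algebra k K'] [IsScalarTower k K K'] in
/-- every element is a quotient -/
theorem exists_num_den (htop : IntermediateField.adjoin K ({s} : Set K') = ⊤) (z : K') :
    ∃ (d : P.O) (g : P.O[X]), (d : K) ≠ 0 ∧ aeval s g = algebraMap P.O K' d * z := by
  have hsK : IsIntegral K s := Algebra.IsIntegral.isIntegral s
  have hzs : z ∈ IntermediateField.adjoin K ({s} : Set K') := by rw [htop]; trivial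
  rw [← IntermediateField.mem_toSubalgebra, IntermediateField.adjoin_simple_toSubalgebra_of_isAlgebraic
    hsK.isAlgebraic,
    Algebra.adjoin_singleton_eq_range_aeval] at hzs
  obtain ⟨q, hq⟩ := hzs
  replace hq : aeval s q = z := hq
  obtain ⟨d, hd0, hd⟩ := IsLocalization.integerNormalization_spec (nonZeroDivisors P.O) (S := K) q
  refine ⟨d, IsLocalization.integerNormalization (nonZeroDivisors P.O) q, ?_, ?_⟩
  · intro h
    exact (nonZeroDivisors.ne_zero hd0) (Subtype.ext h)
  · rw [← aeval_map_algebraMap K, hd, ← algebraMap_smul K d q, map_smul, Algebra.smul_def,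
      ← IsScalarTower.algebraMap_apply P.O K K']
    exact congrArg _ hq

include hQ in
/-- `O_Q` is the localization of `O_P[s]` -/
theorem exists_mul_mem (hint : IsIntegral P.O s) (hs : Q.1 s = exp (-1 : ℤ))
    (h0 : P.1 ((minpoly K s).coeff 0) = exp (-1 : ℤ))
    (htop : IntermediateField.adjoin K ({s} : Set K') = ⊤) (z : K') (hz : Q.1 z ≤ 1) :
    ∃ v ∈ Algebra.adjoin P.O ({s} : Set K'), Q.1 v = 1 ∧ v * z ∈ Algebra.adjoin P.O ({s} : Set K') := by
  by_cases hz0 : z = 0
  · exact ⟨1, Subalgebra.one_mem _, map_one _, by rw [hz0, mul_zero]; exact Subalgebra.zero_mem _⟩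
  have hmem : ∀ p : P.O[X], aeval s p ∈ Algebra.adjoin P.O ({s} : Set K') := fun p => by
    rw [Algebra.adjoin_singleton_eq_range_aeval]; exact ⟨p, rfl⟩
  -- `z` is a quotient
  obtain ⟨d, g, hd0', hb1⟩ := exists_num_den P htop z
  have hQ1 : ∀ b : K', b ≠ 0 → Q.1 b ≤ 1 → ∃ n : ℕ, Q.1 b = exp (-(n : ℤ)) := by
    intro b hb0 hb1
    refine ⟨(Q.ord b).toNat, ?_⟩
    rw [K664.val_eq_exp Q hb0]
    have := (K664.val_le_one_iff Q hb0).mp hb1
    congr 1
    omega
  have hb2 : algebraMap P.O K' d ≠ 0 := by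
    rw [algebraMap_O, Ne, FaithfulSMul.algebraMap_eq_zero_iff]; exact hd0'
  have hs1 : Q.1 s ≤ 1 := by rw [hs, ← exp_zero, exp_le_exp]; omega
  obtain ⟨n1, hn1⟩ := hQ1 (aeval s g) (by rw [hb1]; exact mul_ne_zero hb2 hz0)
    (val_aeval_le P hQ hs1 _ (hmem g))
  obtain ⟨n2, hn2⟩ := hQ1 (algebraMap P.O K' d) hb2
    (val_aeval_le P hQ hs1 _ (Subalgebra.algebraMap_mem _ _))
  obtain ⟨v1, hv1, -, e1⟩ := exists_eq_pow_mul P hQ hint hs h0 n1 _ (hmem g) hn1
  obtain ⟨v2, hv2, hv2', e2⟩ := exists_eq_pow_mul P hQ hint hs h0 n2 _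
    (Subalgebra.algebraMap_mem _ _) hn2
  have hs0 : s ≠ 0 := by rintro rfl; rw [map_zero] at hs; exact exp_ne_zero hs.symm
  have hle : n2 ≤ n1 := by
    rw [hb1, map_mul, hn2] at hn1
    have h3 : exp (-(n1 : ℤ)) ≤ exp (-(n2 : ℤ)) := by
      rw [← hn1]
      exact mul_le_of_le_one_right' hz
    rw [exp_le_exp] at h3
    omega
  have e3 : v2 * z = s ^ (n1 - n2) * v1 := by
    have h4 : s ^ n2 * (v2 * z) = s ^ n2 * (s ^ (n1 - n2) * v1) := by
      have h5 : s ^ n2 * (s ^ (n1 - n2) * v1) = s ^ n1 * v1 := by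
        rw [← mul_assoc, ← pow_add, Nat.add_sub_cancel' hle]
      rw [h5, ← e1, hb1, e2, mul_assoc]
    exact mul_left_cancel₀ (pow_ne_zero _ hs0) h4
  have hsm : s ∈ Algebra.adjoin P.O ({s} : Set K') := Algebra.self_mem_adjoin_singleton _ _
  have h6 : v2 * z ∈ Algebra.adjoin P.O ({s} : Set K') := by
    rw [e3]
    exact Subalgebra.mul_mem _ (Subalgebra.pow_mem _ hsm _) hv1
  exact ⟨v2, hv2, hv2', h6⟩

include hQ in
/-- the conductor of `O_P[s]` is prime to `Q` -/
theorem exists_conductor (hf : Module.Finite P.O (integralClosure P.O K'))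
    (hint : IsIntegral P.O s) (hs : Q.1 s = exp (-1 : ℤ))
    (h0 : P.1 ((minpoly K s).coeff 0) = exp (-1 : ℤ))
    (htop : IntermediateField.adjoin K ({s} : Set K') = ⊤) :
    ∃ c ∈ Algebra.adjoin P.O ({s} : Set K'), Q.1 c = 1 ∧ ∀ r : K', IsIntegral P.O r →
      c * r ∈ Algebra.adjoin P.O ({s} : Set K') := by
  have hded := isDedekind P hf
  have hfg : (Subalgebra.toSubmodule (integralClosure P.O K')).FG := Module.Finite.iff_fg.1 hf
  obtain ⟨S, hS⟩ := hfg
  have hSint : ∀ x ∈ S, IsIntegral P.O x := by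
    intro x hx
    have : x ∈ Subalgebra.toSubmodule (integralClosure P.O K') := by
      rw [← hS]; exact Submodule.subset_span hx
    exact this
  have key : ∀ T : Finset K', (∀ x ∈ T, IsIntegral P.O x) →
      ∃ c ∈ Algebra.adjoin P.O ({s} : Set K'), Q.1 c = 1 ∧ ∀ r ∈ T,
        c * r ∈ Algebra.adjoin P.O ({s} : Set K') := by
    intro T
    classical
    induction T using Finset.induction_on with
    | empty => intro _; exact ⟨1, Subalgebra.one_mem _, map_one _, by simp⟩
    | insert a T _ ih =>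
      intro hT
      obtain ⟨c, hc, hc1, hc2⟩ := ih (fun x hx => hT x (Finset.mem_insert_of_mem hx))
      obtain ⟨v, hv, hv1, hv2⟩ := exists_mul_mem P hQ hint hs h0 htop a
        (integralClosure_le P hQ (hT a (Finset.mem_insert_self a T)))
      refine ⟨c * v, Subalgebra.mul_mem _ hc hv, by rw [map_mul, hc1, hv1, one_mul], ?_⟩
      intro r hr
      rcases Finset.mem_insert.mp hr with rfl | hr
      · rw [mul_assoc]; exact Subalgebra.mul_mem _ hc hv2
      · rw [mul_right_comm]; exact Subalgebra.mul_mem _ (hc2 r hr) hv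
  obtain ⟨c, hc, hc1, hc2⟩ := key S hSint
  refine ⟨c, hc, hc1, fun r hr => ?_⟩
  have hr2 : r ∈ Submodule.span P.O (S : Set K') := by rw [hS]; exact hr
  clear hr
  induction hr2 using Submodule.span_induction with
  | mem x hx => exact hc2 x hx
  | zero => rw [mul_zero]; exact Subalgebra.zero_mem _
  | add x y _ _ ihx ihy => rw [mul_add]; exact Subalgebra.add_mem _ ihx ihy
  | smul a x _ ihx => rw [mul_smul_comm]; exact Subalgebra.smul_mem _ ihx a

open Pointwise in
include hQ in
/-- the trace dual -/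
theorem traceDual [Algebra.IsSeparable K K'] (hf : Module.Finite P.O (integralClosure P.O K'))
    (hint : IsIntegral P.O s) (hs : Q.1 s = exp (-1 : ℤ))
    (h0 : P.1 ((minpoly K s).coeff 0) = exp (-1 : ℤ))
    (htop : IntermediateField.adjoin K ({s} : Set K') = ⊤) :
    (∀ y : K', (∀ z : K', IsIntegral P.O z → P.1 (Algebra.trace K K' (y * z)) ≤ 1) →
      Q.1 y ≤ (Q.1 (aeval s (derivative (minpoly K s))))⁻¹) ∧
    ∃ y : K', (∀ z : K', IsIntegral P.O z → P.1 (Algebra.trace K K' (y * z)) ≤ 1) ∧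
      Q.1 y = (Q.1 (aeval s (derivative (minpoly K s))))⁻¹ := by
  have hsK : IsIntegral K s := Algebra.IsIntegral.isIntegral s
  have htop' : Algebra.adjoin K ({s} : Set K') = ⊤ := by
    rw [← IntermediateField.adjoin_simple_toSubalgebra_of_isAlgebraic hsK.isAlgebraic, htop,
      IntermediateField.top_toSubalgebra]
  have hdual := traceForm_dualSubmodule_adjoin P.O K htop' hint
  have hone : ∀ a : K, a ∈ (1 : Submodule P.O K) ↔ P.1 a ≤ 1 := by
    intro a
    rw [Submodule.mem_one]
    constructor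
    · rintro ⟨r, rfl⟩; exact r.2
    · intro h; exact ⟨⟨a, h⟩, rfl⟩
  have hs1 : Q.1 s ≤ 1 := by rw [hs, ← exp_zero, exp_le_exp]; omega
  have hmemdual : ∀ y : K', y ∈ (aeval s (derivative (minpoly K s)))⁻¹ •
      Subalgebra.toSubmodule (Algebra.adjoin P.O ({s} : Set K')) ↔
      ∀ b ∈ Algebra.adjoin P.O ({s} : Set K'), P.1 (Algebra.trace K K' (y * b)) ≤ 1 := by
    intro y
    rw [← hdual, LinearMap.BilinForm.mem_dualSubmodule]
    constructor
    · intro h b hb
      have := h b hb
      rwa [Algebra.traceForm_apply, hone] at this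
    · intro h b hb
      rw [Algebra.traceForm_apply, hone]
      exact h b hb
  have hbint : ∀ b ∈ Algebra.adjoin P.O ({s} : Set K'), IsIntegral P.O b := by
    intro b hb
    have hle : Algebra.adjoin P.O ({s} : Set K') ≤ integralClosure P.O K' :=
      Algebra.adjoin_le (Set.singleton_subset_iff.mpr hint)
    exact hle hb
  constructor
  · intro y hy
    have h1 := (hmemdual y).mpr (fun b hb => hy b (hbint b hb))
    rw [Submodule.mem_smul_pointwise_iff_exists] at h1
    obtain ⟨b, hb, rfl⟩ := h1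
    rw [smul_eq_mul, map_mul, map_inv₀]
    exact mul_le_of_le_one_right' (val_aeval_le P hQ hs1 b hb)
  · obtain ⟨c, hc, hc1, hc2⟩ := exists_conductor P hQ hf hint hs h0 htop
    refine ⟨(aeval s (derivative (minpoly K s)))⁻¹ * c, fun z hz => ?_, ?_⟩
    · have h1 : (aeval s (derivative (minpoly K s)))⁻¹ * c * z ∈
          (aeval s (derivative (minpoly K s)))⁻¹ •
            Subalgebra.toSubmodule (Algebra.adjoin P.O ({s} : Set K')) := by
        rw [Submodule.mem_smul_pointwise_iff_exists]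
        exact ⟨c * z, hc2 z hz, by rw [smul_eq_mul, mul_assoc]⟩
      have := (hmemdual _).mp h1 1 (Subalgebra.one_mem _)
      rwa [mul_one] at this
    · rw [map_mul, hc1, mul_one, map_inv₀]

end K666.TraceDual
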